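import Cfsg.Agent.CoprimeLayer.Basic
import Cfsg.Prelude.Def_Transfer

/-!
# The abelian case of the main lemma

A minimal invariant abelian group is a faithful irreducible module without fixed points of `R`,
so Shult's theorem makes the image of the perfect group a `2`-group, hence trivial.
-/

set_option autoImplicit false

namespace CfsgLib.CoprimeLayer

open Subgroup

universe u

/-- Shult's fixed point theorem, in the form used here. -/
def ShultProp : Prop :=
  ∀ {X : Type u} [Group X] [Finite X] (G R : Subgroup X) [G.Normal], G ⊔ R = ⊤ →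
    ∀ r : ℕ, r.Prime → Nat.card R = r → ¬ r ∣ Nat.card G →
    ∀ {p : ℕ} [Fact p.Prime] {V : Type u} [AddCommGroup V] [Module (ZMod p) V]
      [FiniteDimensional (ZMod p) V] [Nontrivial V] (ρ : Representation (ZMod p) X V),
      Function.Injective ρ →
      (∀ W : Submodule (ZMod p) V, (∀ x : X, W.map (ρ x) ≤ W) → W = ⊥ ∨ W = ⊤) →
      (∀ v : V, (∀ x ∈ R, ρ x v = v) → v = 0) →
      ⁅G, R⁆ = ⊥ ∨ Cfsg.IsSpecial 2 ↥⁅G, R⁆

/-- An elementary abelian group as a module for its automorphisms. -/
def autRep (p : ℕ) (A : Type u) [CommGroup A] [Module (ZMod p) (Additive A)] :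
    Representation (ZMod p) (MulAut A) (Additive A) where
  toFun f := AddMonoidHom.toZModLinearMap p
    (AddMonoidHom.mk' (fun a : Additive A => Additive.ofMul (f (Additive.toMul a)))
      (fun a b => map_mul f (Additive.toMul a) (Additive.toMul b)))
  map_one' := LinearMap.ext fun _ => rfl
  map_mul' _ _ := LinearMap.ext fun _ => rfl

/-- The same module, for a group of automorphisms. -/
def subAutRep (p : ℕ) (A : Type u) [CommGroup A] [Module (ZMod p) (Additive A)]
    (S : Subgroup (MulAut A)) : Representation (ZMod p) S (Additive A) where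
  toFun f := autRep p A (f : MulAut A)
  map_one' := map_one (autRep p A)
  map_mul' f g := map_mul (autRep p A) (f : MulAut A) g

theorem subAutRep_apply (p : ℕ) (A : Type u) [CommGroup A] [Module (ZMod p) (Additive A)]
    (S : Subgroup (MulAut A)) (f : S) (a : A) :
    subAutRep p A S f (Additive.ofMul a) = Additive.ofMul ((f : MulAut A) a) := rfl

/-- A perfect group `[E₀, R₀] = E₀` of automorphisms with an irreducible module and no fixed point
of `R₀` is trivial. -/
theorem fixed_point_free_module (hS : ShultProp.{u}) {r : ℕ} [Fact r.Prime] {p : ℕ}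
    [Fact p.Prime] {A : Type u} [CommGroup A] [Finite A] [Nontrivial A]
    [Module (ZMod p) (Additive A)] {E0 R0 : Subgroup (MulAut A)}
    (hRE0 : R0 ≤ normalizer (E0 : Set (MulAut A))) (hE0 : ⁅E0, E0⁆ = E0) (hER0 : ⁅E0, R0⁆ = E0)
    (hR0 : Nat.card R0 = r) (hE0d : ¬ r ∣ Nat.card E0)
    (hirr : ∀ N : Subgroup A, (∀ f : MulAut A, f ∈ E0 ⊔ R0 → ∀ a ∈ N, f a ∈ N) → N = ⊥ ∨ N = ⊤)
    (hfix : ∀ a : A, (∀ f ∈ R0, f a = a) → a = 1) : ∀ f ∈ E0, f = 1 := by
  haveI : Finite (MulAut A) := Finite.of_injective (fun a : MulAut A => (a : A → A))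
    DFunLike.coe_injective
  set X0 := E0 ⊔ R0
  haveI : (E0.subgroupOf X0).Normal :=
    (normal_subgroupOf_iff_le_normalizer le_sup_left).2 (sup_le le_normalizer hRE0)
  let ρ : Representation (ZMod p) X0 (Additive A) := subAutRep p A X0
  have hρ : ∀ (x : X0) (m : A), ρ x (Additive.ofMul m) = Additive.ofMul ((x : MulAut A) m) :=
    fun x m => rfl
  have hinj : Function.Injective ρ := fun x y e => Subtype.ext (MulEquiv.ext fun m => by
    have := congrArg (fun f => f (Additive.ofMul m)) e
    simpa [hρ] using this)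
  have hirr' : ∀ W : Submodule (ZMod p) (Additive A),
      (∀ x : X0, W.map (ρ x) ≤ W) → W = ⊥ ∨ W = ⊤ := by
    intro W hW
    let N1 : Subgroup A :=
      { carrier := {m | Additive.ofMul m ∈ W}
        one_mem' := W.zero_mem
        mul_mem' := fun ha hb => W.add_mem ha hb
        inv_mem' := fun ha => W.neg_mem ha }
    rcases hirr N1 fun f hf a ha => hW ⟨f, hf⟩ ⟨_, ha, rfl⟩ with h' | h'
    · refine Or.inl (eq_bot_iff.2 fun w hw => ?_)
      have : Additive.toMul w ∈ N1 := hw
      rw [h', mem_bot] at this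
      rw [Submodule.mem_bot]
      exact congrArg Additive.ofMul this
    · refine Or.inr (eq_top_iff.2 fun w _ => ?_)
      have : Additive.toMul w ∈ N1 := h' ▸ mem_top _
      exact this
  have hfix' : ∀ v : Additive A, (∀ x ∈ R0.subgroupOf X0, ρ x v = v) → v = 0 := fun v hv =>
    congrArg Additive.ofMul (hfix (Additive.toMul v) fun f hf =>
      congrArg Additive.toMul (hv ⟨f, mem_sup_right hf⟩ (mem_subgroupOf.2 hf)))
  have hres := hS (E0.subgroupOf X0) (R0.subgroupOf X0)
    (by rw [← subgroupOf_sup le_sup_left le_sup_right, subgroupOf_self])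
    r Fact.out ((Nat.card_congr (subgroupOfEquivOfLe le_sup_right).toEquiv).trans hR0)
    (by rw [Nat.card_congr (subgroupOfEquivOfLe (le_sup_left : E0 ≤ X0)).toEquiv]; exact hE0d)
    ρ hinj hirr' hfix'
  rw [commutator_subgroupOf le_sup_left le_sup_right, hER0] at hres
  intro a ha
  rcases hres with h' | h'
  · have : (⟨a, mem_sup_left ha⟩ : X0) ∈ E0.subgroupOf X0 := mem_subgroupOf.2 ha
    rw [h', mem_bot] at this
    exact congrArg Subtype.val this
  · have h2 : IsPGroup 2 E0 := h'.1.of_equiv (subgroupOfEquivOfLe le_sup_left)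
    haveI := Fact.mk Nat.prime_two
    haveI := h2.isNilpotent
    haveI : Group.IsPerfect E0 := Subgroup.isPerfect_iff.2 hE0
    by_contra ha1
    haveI : Nontrivial E0 := ⟨⟨⟨a, ha⟩, 1, fun e => ha1 (congrArg Subtype.val e)⟩⟩
    exact Group.IsPerfect.not_isNilpotent E0 inferInstance

variable {X : Type u} [Group X] [Finite X]

theorem abelian_case (hS : ShultProp.{u}) {r : ℕ} [Fact r.Prime] {M E R : Subgroup X}
    (h : Hyp r M E R) [IsMulCommutative M] (hM : M ≠ ⊥)
    (hmin : ∀ N : Subgroup X, N ≤ M → E ≤ normalizer (N : Set X) → R ≤ normalizer (N : Set X) →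
      M ≤ normalizer (N : Set X) → N = ⊥ ∨ N = M) :
    E ≤ centralizer (M : Set X) := by
  have hMn : ∀ N : Subgroup X, N ≤ M → M ≤ normalizer (N : Set X) := fun N hN =>
    (show M ≤ centralizer (N : Set X) from fun a ha => mem_centralizer_iff.2 fun b hb =>
      congrArg Subtype.val (mul_comm' (⟨b, hN hb⟩ : M) ⟨a, ha⟩)).trans (centralizer_le_normalizer _)
  -- fixed points of `E`
  rcases hmin (M ⊓ centralizer (E : Set X)) inf_le_left (le_normalizer_inf_cent h.hEM le_normalizer)
    (le_normalizer_inf_cent h.hRM h.hRE) (hMn _ inf_le_left) with hC | hC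
  swap
  · exact le_centralizer_iff.1 (hC ▸ inf_le_right)
  have hfR : M ⊓ centralizer (R : Set X) = ⊥ := eq_bot_iff.2 fun m hm => by
    rw [← hC]
    exact mem_inf.2 ⟨(mem_inf.1 hm).1, le_centralizer_iff.1 h.hfix hm⟩
  -- exponent `p`
  set p := (Nat.card M).minFac
  have hcM : Nat.card M ≠ 1 := fun e => hM (eq_bot_of_card_eq M e)
  haveI : Fact p.Prime := ⟨Nat.minFac_prime hcM⟩
  letI : CommGroup M := { M.toGroup with mul_comm := mul_comm' }
  have hpow : ∀ m : M, m ^ p = 1 := by
    set N0 : Subgroup M := (powMonoidHom p : M →* M).ker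
    have hN : ∀ {g : X}, g ∈ normalizer (M : Set X) →
        g ∈ normalizer ((N0.map M.subtype : Subgroup X) : Set X) := by
      intro g hg
      refine mem_normalizer_fintype fun n hn => ?_
      obtain ⟨y, hy, rfl⟩ := hn
      refine ⟨⟨g * y * g⁻¹, (mem_normalizer_iff.1 hg y).1 y.2⟩, ?_, rfl⟩
      show (⟨g * y * g⁻¹, _⟩ : M) ^ p = 1
      apply Subtype.ext
      show (g * (y : X) * g⁻¹) ^ p = 1
      rw [conj_pow, show ((y : X)) ^ p = 1 from congrArg Subtype.val (show y ^ p = 1 from hy)]
      group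
    rcases hmin (N0.map M.subtype) (map_subtype_le _) (fun e he => hN (h.hEM he))
      (fun e he => hN (h.hRM he)) (hMn _ (map_subtype_le _)) with h' | h'
    · obtain ⟨x, hx⟩ := exists_prime_orderOf_dvd_card' p (Nat.minFac_dvd (Nat.card M))
      have hx1 : (x : X) ∈ N0.map M.subtype :=
        ⟨x, show x ^ p = 1 by rw [← hx]; exact pow_orderOf_eq_one x, rfl⟩
      rw [h', mem_bot] at hx1
      have : x = 1 := Subtype.ext hx1
      rw [this, orderOf_one] at hx
      exact absurd hx.symm (Fact.out : p.Prime).ne_one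
    · intro m
      obtain ⟨y, hy, e⟩ : (m : X) ∈ N0.map M.subtype := by rw [h']; exact m.2
      rw [show m = y from (Subtype.ext e).symm]
      exact hy
  -- the module
  haveI : Nontrivial M := (nontrivial_iff_ne_bot M).2 hM
  let φ := M.normalizerMonoidHom
  set E0 := (E.subgroupOf (normalizer (M : Set X))).map φ
  set R0 := (R.subgroupOf (normalizer (M : Set X))).map φ
  have hRE0 : R0 ≤ normalizer (E0 : Set (MulAut M)) :=
    (map_mono (subgroupOf_normalizer_le h.hEM h.hRE)).trans (le_normalizer_map φ)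
  have hE0 : ⁅E0, E0⁆ = E0 := by
    rw [← map_commutator, commutator_subgroupOf h.hEM h.hEM, h.hE]
  have hER0 : ⁅E0, R0⁆ = E0 := by
    rw [← map_commutator, commutator_subgroupOf h.hEM h.hRM, h.hER]
  have hE0d : ¬ r ∣ Nat.card E0 := fun hd => h.hrE (by
    refine (hd.trans (card_dvd_of_surjective _ (φ.subgroupMap_surjective _))).trans ?_
    exact dvd_of_eq (Nat.card_congr (subgroupOfEquivOfLe h.hEM).toEquiv))
  have hR0d : Nat.card R0 ∣ r := by
    refine (card_dvd_of_surjective _ (φ.subgroupMap_surjective _)).trans ?_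
    exact dvd_of_eq ((Nat.card_congr (subgroupOfEquivOfLe h.hRM).toEquiv).trans h.hR)
  have key : ∀ a ∈ E0, a = 1 := by
    rcases (Nat.dvd_prime Fact.out).1 hR0d with hc1 | hR0
    · intro a ha
      rw [← hER0, eq_bot_of_card_eq R0 hc1, commutator_bot_right, mem_bot] at ha
      exact ha
    letI : Module (ZMod p) (Additive M) :=
      AddCommGroup.zmodModule fun a => hpow (Additive.toMul a)
    refine fixed_point_free_module hS (p := p) hRE0 hE0 hER0 hR0 hE0d ?_ ?_
    · intro N hN
      have hN' : ∀ {g : X} (hg : g ∈ normalizer (M : Set X)), φ ⟨g, hg⟩ ∈ E0 ⊔ R0 →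
          g ∈ normalizer ((N.map M.subtype : Subgroup X) : Set X) := by
        intro g hg hgX
        refine mem_normalizer_fintype fun n hn => ?_
        obtain ⟨y, hy, rfl⟩ := hn
        exact ⟨φ ⟨g, hg⟩ y, hN _ hgX y hy, rfl⟩
      rcases hmin (N.map M.subtype) (map_subtype_le _)
        (fun e he => hN' (h.hEM he) (mem_sup_left (mem_map_of_mem φ (mem_subgroupOf.2 he))))
        (fun e he => hN' (h.hRM he) (mem_sup_right (mem_map_of_mem φ (mem_subgroupOf.2 he))))
        (hMn _ (map_subtype_le _)) with h' | h'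
      · exact Or.inl ((map_eq_bot_iff_of_injective _ M.subtype_injective).1 h')
      · refine Or.inr (map_injective M.subtype_injective ?_)
        rw [h', ← MonoidHom.range_eq_map, M.range_subtype]
    · intro m hm
      have hmem : (m : X) ∈ M ⊓ centralizer (R : Set X) := by
        refine mem_inf.2 ⟨m.2, mem_centralizer_iff.2 fun t ht => ?_⟩
        exact mul_inv_eq_iff_eq_mul.1 (congrArg Subtype.val
          (hm (φ ⟨t, h.hRM ht⟩) (mem_map_of_mem φ (mem_subgroupOf.2 ht))))
      rw [hfR, mem_bot] at hmem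
      exact Subtype.ext hmem
  intro e he
  rw [mem_centralizer_iff]
  intro m hm
  have h1 := congrArg (fun f : MulAut M => ((f ⟨m, hm⟩ : M) : X))
    (key _ (mem_map_of_mem φ (mem_subgroupOf.2 he : (⟨e, h.hEM he⟩ : normalizer (M : Set X)) ∈ _)))
  exact (mul_inv_eq_iff_eq_mul.1 h1).symm

end CfsgLib.CoprimeLayer
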