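import Cfsg.Agent.Coprime.Action
import Cfsg.Agent.Components.Layer
import Cfsg.Agent.Components.FStar

/-!
# Hypotheses of the main lemma, components inside an ambient group

`Hyp r M E R`: `R` of prime order `r` acts coprimely on `M` and on the perfect group `E = [E, R]`,
`E` acts on `M` and centralises the fixed points of `R` there.
-/

set_option autoImplicit false

namespace CfsgLib.CoprimeLayer

open Subgroup
open scoped Pointwise commutatorElement

universe u

variable {X : Type u} [Group X]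

/-- The hypotheses of the main lemma. -/
structure Hyp (r : ℕ) (M E R : Subgroup X) : Prop where
  hR : Nat.card R = r
  hrM : ¬ r ∣ Nat.card M
  hrE : ¬ r ∣ Nat.card E
  hRM : R ≤ normalizer (M : Set X)
  hEM : E ≤ normalizer (M : Set X)
  hRE : R ≤ normalizer (E : Set X)
  hE : ⁅E, E⁆ = E
  hER : ⁅E, R⁆ = E
  hfix : E ≤ centralizer ((M ⊓ centralizer (R : Set X) : Subgroup X) : Set X)

theorem normalizer_le_normalizer_cent (V : Subgroup X) :
    normalizer (V : Set X) ≤ normalizer (centralizer (V : Set X) : Set X) := by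
  intro g hg
  rw [mem_normalizer_iff]
  intro x
  simp only [mem_centralizer_iff, SetLike.mem_coe]
  constructor
  · intro hx v hv
    have h := hx (g⁻¹ * v * g⁻¹⁻¹) ((mem_normalizer_iff.1 (inv_mem hg) v).1 hv)
    rw [inv_inv] at h
    calc v * (g * x * g⁻¹) = g * (g⁻¹ * v * g * x) * g⁻¹ := by group
      _ = g * (x * (g⁻¹ * v * g)) * g⁻¹ := by rw [h]
      _ = _ := by group
  · intro hx v hv
    have h := hx (g * v * g⁻¹) ((mem_normalizer_iff.1 hg v).1 hv)
    calc v * x = g⁻¹ * (g * v * g⁻¹ * (g * x * g⁻¹)) * g := by group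
      _ = g⁻¹ * (g * x * g⁻¹ * (g * v * g⁻¹)) * g := by rw [h]
      _ = _ := by group

/-- A normaliser of two subgroups normalises their intersection. -/
theorem le_normalizer_inf {A H K : Subgroup X} (h1 : A ≤ normalizer (H : Set X))
    (h2 : A ≤ normalizer (K : Set X)) : A ≤ normalizer ((H ⊓ K : Subgroup X) : Set X) :=
  (le_inf h1 h2).trans inf_normalizer_le_normalizer_inf

/-- A normaliser of a subgroup normalises the intersection with a centraliser it normalises. -/
theorem le_normalizer_inf_cent {A H K : Subgroup X} (h1 : A ≤ normalizer (H : Set X))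
    (h2 : A ≤ normalizer (K : Set X)) :
    A ≤ normalizer ((H ⊓ centralizer (K : Set X) : Subgroup X) : Set X) :=
  le_normalizer_inf h1 (h2.trans (normalizer_le_normalizer_cent K))

/-- A perfect subgroup acting trivially on a series centralises the group. -/
theorem le_centralizer_of_series {M N E : Subgroup X} (hE : ⁅E, E⁆ = E) (h1 : ⁅M, E⁆ ≤ N)
    (h2 : E ≤ centralizer (N : Set X)) : E ≤ centralizer (M : Set X) := by
  have e1 : ⁅⁅M, E⁆, E⁆ = ⊥ := eq_bot_iff.2 ((commutator_mono h1 le_rfl).trans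
    (le_of_eq (by rw [commutator_comm]; exact commutator_eq_bot_iff_le_centralizer.2 h2)))
  have e2 : ⁅⁅E, M⁆, E⁆ = ⊥ := by rwa [commutator_comm E M]
  have e3 := commutator_commutator_eq_bot_of_rotate e2 e1
  rw [hE] at e3
  exact commutator_eq_bot_iff_le_centralizer.1 e3

/-- Commutators of two subgroups extended by a common normalised subgroup. -/
theorem commutator_sup_le {A B M : Subgroup X} (hA : A ≤ normalizer (M : Set X))
    (hB : B ≤ normalizer (M : Set X)) : ⁅A ⊔ M, B ⊔ M⁆ ≤ ⁅A, B⁆ ⊔ M := by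
  rw [commutator_le]
  intro x hx y hy
  rw [sup_comm] at hx hy
  obtain ⟨m, hm, a, ha, rfl⟩ := Coprime.exists_mul_of_mem_sup hA hx
  obtain ⟨n, hn, b, hb, rfl⟩ := Coprime.exists_mul_of_mem_sup hB hy
  have h1 : a * b * n * b⁻¹ * a⁻¹ * n⁻¹ ∈ M := by
    refine mul_mem ?_ (inv_mem hn)
    have := (mem_normalizer_iff.1 (mul_mem (hA ha) (hB hb)) n).1 hn
    simpa [mul_assoc] using this
  have e : ⁅m * a, n * b⁆ = (m * (a * n * a⁻¹)) * ⁅a, b⁆ *
      ((b * m⁻¹ * b⁻¹) * n⁻¹) := by
    rw [commutatorElement_def, commutatorElement_def]; group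
  rw [e]
  refine mul_mem (mul_mem ?_ (mem_sup_left (commutator_mem_commutator ha hb))) ?_
  · exact mem_sup_right (mul_mem hm ((mem_normalizer_iff.1 (hA ha) n).1 hn))
  · exact mem_sup_right (mul_mem ((mem_normalizer_iff.1 (hB hb) _).1 (inv_mem hm)) (inv_mem hn))

theorem commutator_sup_le_left {A R M : Subgroup X} (hA : A ≤ normalizer (M : Set X))
    (hR : R ≤ normalizer (M : Set X)) : ⁅A ⊔ M, R⁆ ≤ ⁅A, R⁆ ⊔ M :=
  (commutator_mono le_rfl le_sup_left).trans (commutator_sup_le hA hR)

/-- A group without elements of order `r` in a subgroup and in a normalising group. -/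
theorem not_dvd_card_sup [Finite X] {r : ℕ} (hr : r.Prime) {A B : Subgroup X}
    (hA : A ≤ normalizer (B : Set X)) (h1 : ¬ r ∣ Nat.card A) (h2 : ¬ r ∣ Nat.card B) :
    ¬ r ∣ Nat.card ↥(A ⊔ B) := by
  intro h
  haveI := Fact.mk hr
  obtain ⟨z, hz⟩ := exists_prime_orderOf_dvd_card' r h
  set C := A ⊔ B
  haveI : (B.subgroupOf C).Normal :=
    (normal_subgroupOf_iff_le_normalizer le_sup_right).2 (sup_le hA le_normalizer)
  let f : A →* C ⧸ B.subgroupOf C :=
    (QuotientGroup.mk' (B.subgroupOf C)).comp (inclusion le_sup_left)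
  have hf : Function.Surjective f := by
    intro q
    obtain ⟨c, rfl⟩ := QuotientGroup.mk'_surjective _ q
    have hc : (c : X) ∈ B ⊔ A := by rw [sup_comm]; exact c.2
    obtain ⟨b, hb, a, ha, e⟩ := Coprime.exists_mul_of_mem_sup hA hc
    refine ⟨⟨a, ha⟩, (QuotientGroup.eq.2 ?_)⟩
    rw [mem_subgroupOf]
    show a⁻¹ * (c : X) ∈ B
    rw [← e, ← mul_assoc]
    have := (mem_normalizer_iff.1 (inv_mem (hA ha)) b).1 hb
    simpa using this
  have hd : r ∣ Nat.card (B.subgroupOf C) * (B.subgroupOf C).index := by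
    rw [card_mul_index]; exact h
  rcases (Nat.Prime.dvd_mul hr).1 hd with h' | h'
  · exact h2 (h'.trans (dvd_of_eq (Nat.card_congr (subgroupOfEquivOfLe le_sup_right).toEquiv)))
  · rw [index_eq_card] at h'
    exact h1 (h'.trans (card_dvd_of_surjective f hf))

theorem subgroupOf_normalizer_le {A B H : Subgroup X} (hA : A ≤ H) (hB : B ≤ normalizer (A : Set X)) :
    B.subgroupOf H ≤ normalizer ((A.subgroupOf H : Subgroup H) : Set H) := by
  intro b hb
  rw [mem_normalizer_iff]
  intro n
  exact (mem_normalizer_iff.1 (hB hb) (n : X))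

theorem commutator_subgroupOf {A B H : Subgroup X} (hA : A ≤ H) (hB : B ≤ H) :
    ⁅A.subgroupOf H, B.subgroupOf H⁆ = ⁅A, B⁆.subgroupOf H := by
  refine map_injective H.subtype_injective ?_
  rw [map_commutator, map_subgroupOf_eq_of_le hA, map_subgroupOf_eq_of_le hB,
    map_subgroupOf_eq_of_le]
  exact commutator_le.2 fun a ha b hb => by
    rw [commutatorElement_def]
    exact mul_mem (mul_mem (mul_mem (hA ha) (hB hb)) (inv_mem (hA ha))) (inv_mem (hB hb))

theorem Hyp.restrict {r : ℕ} {M E R H : Subgroup X} (h : Hyp r M E R) (hM : M ≤ H) (hE : E ≤ H)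
    (hR : R ≤ H) : Hyp r (M.subgroupOf H) (E.subgroupOf H) (R.subgroupOf H) where
  hR := (Nat.card_congr (subgroupOfEquivOfLe hR).toEquiv).trans h.hR
  hrM := by rw [Nat.card_congr (subgroupOfEquivOfLe hM).toEquiv]; exact h.hrM
  hrE := by rw [Nat.card_congr (subgroupOfEquivOfLe hE).toEquiv]; exact h.hrE
  hRM := subgroupOf_normalizer_le hM h.hRM
  hEM := subgroupOf_normalizer_le hM h.hEM
  hRE := subgroupOf_normalizer_le hE h.hRE
  hE := by rw [commutator_subgroupOf hE hE, h.hE]
  hER := by rw [commutator_subgroupOf hE hR, h.hER]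
  hfix := by
    intro e he
    rw [mem_centralizer_iff]
    rintro m ⟨hm1, hm2⟩
    refine Subtype.ext (mem_centralizer_iff.1 (h.hfix he) _ (mem_inf.2 ⟨hm1, ?_⟩))
    rw [mem_centralizer_iff]
    exact fun t ht => congrArg Subtype.val (mem_centralizer_iff.1 hm2 ⟨t, hR ht⟩ ht)

theorem Hyp.map [Finite X] {r : ℕ} [Fact r.Prime] {M E R : Subgroup X} (h : Hyp r M E R)
    {Y : Type u} [Group Y] (f : X →* Y) (hker : R ⊓ f.ker = ⊥) :
    Hyp r (M.map f) (E.map f) (R.map f) where
  hR := by
    refine Eq.trans ?_ h.hR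
    refine (Nat.card_congr (Equiv.ofBijective (fun t : R => (⟨f t, mem_map_of_mem f t.2⟩ : R.map f))
      ⟨fun a b e => ?_, fun y => ?_⟩)).symm
    · have e' : (a : X)⁻¹ * b ∈ R ⊓ f.ker := mem_inf.2 ⟨mul_mem (inv_mem a.2) b.2, by
        rw [MonoidHom.mem_ker, map_mul, map_inv, show f (a : X) = f (b : X) from congrArg Subtype.val e, inv_mul_cancel]⟩
      rw [hker, mem_bot, inv_mul_eq_one] at e'
      exact Subtype.ext e'
    · obtain ⟨t, ht, e⟩ := y.2
      exact ⟨⟨t, ht⟩, Subtype.ext e⟩
  hrM := fun hd => h.hrM (hd.trans (card_dvd_of_surjective _ (f.subgroupMap_surjective M)))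
  hrE := fun hd => h.hrE (hd.trans (card_dvd_of_surjective _ (f.subgroupMap_surjective E)))
  hRM := (map_mono h.hRM).trans (le_normalizer_map f)
  hEM := (map_mono h.hEM).trans (le_normalizer_map f)
  hRE := (map_mono h.hRE).trans (le_normalizer_map f)
  hE := by rw [← map_commutator, h.hE]
  hER := by rw [← map_commutator, h.hER]
  hfix := by
    have hcop : (Nat.card R).Coprime (Nat.card ↥(M ⊓ f.ker)) := by
      rw [h.hR]
      exact (Fact.out : r.Prime).coprime_iff_not_dvd.2 fun hd =>
        h.hrM (hd.trans (card_dvd_of_le inf_le_left))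
    have hsolv : Group.IsSolvable R := by
      haveI : IsCyclic R := isCyclic_of_prime_card h.hR
      letI : CommGroup R := IsCyclic.commGroup
      infer_instance
    rw [← Coprime.map_inf_centralizer f h.hRM hcop (Or.inl hsolv)]
    rintro _ ⟨e, he, rfl⟩
    rw [mem_centralizer_iff]
    rintro _ ⟨m, hm, rfl⟩
    rw [← map_mul, ← map_mul, mem_centralizer_iff.1 (h.hfix he) m hm]

/-! ### Components of a subgroup -/

/-- `L` is a component of `M`. -/
def IsComp (M L : Subgroup X) : Prop := L ≤ M ∧ Cfsg.IsComponent (L.subgroupOf M)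

theorem IsComp.commute {M L K : Subgroup X} (hL : IsComp M L) (hK : IsComp M K) (h : L ≠ K) :
    ⁅L, K⁆ = ⊥ := by
  have h' := Components.IsComponent.commutator_eq_bot_of_ne hL.2 hK.2 fun e => h (by
    rw [← map_subgroupOf_eq_of_le hL.1, e, map_subgroupOf_eq_of_le hK.1])
  rw [← map_subgroupOf_eq_of_le hL.1, ← map_subgroupOf_eq_of_le hK.1, ← map_commutator, h',
    Subgroup.map_bot]

theorem IsComp.not_commute {M L : Subgroup X} (hL : IsComp M L) : ⁅L, L⁆ ≠ ⊥ := by
  intro h
  refine Components.IsComponent.not_commute hL.2 ?_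
  rw [commutator_subgroupOf hL.1 hL.1, h, bot_subgroupOf]

theorem IsComp.conj_smul {M L : Subgroup X} (hL : IsComp M L) {g : X}
    (hg : g ∈ normalizer (M : Set X)) : IsComp M (MulAut.conj g • L) := by
  refine ⟨?_, ?_⟩
  · rw [← Coprime.conj_smul_eq_self hg]
    exact pointwise_smul_le_pointwise_smul_iff.2 hL.1
  · let e : MulAut M := M.normalizerMonoidHom ⟨g, hg⟩
    have he : (MulAut.conj g • L).subgroupOf M = (L.subgroupOf M).map e.toMonoidHom := by
      ext x
      rw [mem_subgroupOf, Coprime.mem_conj_smul]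
      constructor
      · intro hx
        refine ⟨⟨g⁻¹ * x * g, hL.1 hx⟩, hx, Subtype.ext ?_⟩
        show g * (g⁻¹ * (x : X) * g) * g⁻¹ = x
        group
      · rintro ⟨y, hy, rfl⟩
        show g⁻¹ * (g * (y : X) * g⁻¹) * g ∈ L
        simpa [mul_assoc] using mem_subgroupOf.1 hy
    rw [he]
    exact Components.IsComponent.map_equiv hL.2 e

theorem IsComp.mem_of_le_sSup {M L : Subgroup X} (hL : IsComp M L) {S : Set (Subgroup X)}
    (hS : ∀ K ∈ S, IsComp M K) (h : L ≤ sSup S) : L ∈ S := by
  by_contra hn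
  refine hL.not_commute (commutator_eq_bot_iff_le_centralizer.2 (h.trans (sSup_le fun K hK => ?_)))
  exact commutator_eq_bot_iff_le_centralizer.1 ((hS K hK).commute hL fun e => hn (e ▸ hK))

theorem IsComp.le_normalizer_comp {M L K : Subgroup X} (hL : IsComp M L) (hK : IsComp M K) :
    L ≤ normalizer (K : Set X) := by
  by_cases h : L = K
  · subst h; exact le_normalizer
  · exact (commutator_eq_bot_iff_le_centralizer.1 (hL.commute hK h)).trans
      (centralizer_le_normalizer _)

end CfsgLib.CoprimeLayer
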