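import Cfsg.Agent.CoprimeLayer.Main

/-!
# Commuting quasisimple families and the layer

An invariant family of commuting quasisimple subgroups, none centralised by `R`, lies in the layer.
-/

set_option autoImplicit false

namespace CfsgLib.CoprimeLayer

open Subgroup
open scoped Pointwise commutatorElement

universe u

variable {X : Type u} [Group X]

theorem map_conj_eq_smul (g : X) (K : Subgroup X) :
    K.map (MulAut.conj g).toMonoidHom = MulAut.conj g • K := rfl

theorem qs_commutator_self {K : Subgroup X} (hK : Cfsg.IsQuasisimple K) : ⁅K, K⁆ = K :=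
  Subgroup.isPerfect_iff.1 hK.1

theorem qs_not_le_centralizer {K : Subgroup X} (hK : Cfsg.IsQuasisimple K) :
    ¬ K ≤ centralizer (K : Set X) := fun h => by
  refine Components.IsQuasisimple.not_isMulCommutative hK ?_
  exact ⟨⟨fun a b => Subtype.ext (mem_centralizer_iff.1 (h b.2) a a.2)⟩⟩

theorem qs_ne_bot {K : Subgroup X} (hK : Cfsg.IsQuasisimple K) : K ≠ ⊥ := by
  rintro rfl
  exact qs_not_le_centralizer hK bot_le

theorem IsComp.qs {M L : Subgroup X} (hL : IsComp M L) : Cfsg.IsQuasisimple L :=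
  Components.isQuasisimple_congr (subgroupOfEquivOfLe hL.1) hL.2.2

theorem sSup_perfect {S : Set (Subgroup X)} (hS : ∀ K ∈ S, ⁅K, K⁆ = K) :
    ⁅sSup S, sSup S⁆ = sSup S :=
  le_antisymm (commutator_le_self _)
    (sSup_le fun K hK => (hS K hK).ge.trans (commutator_mono (le_sSup hK) (le_sSup hK)))

/-- The join of an invariant family is invariant. -/
theorem le_normalizer_sSup {A : Subgroup X} {S : Set (Subgroup X)}
    (hinv : ∀ g ∈ A, ∀ L ∈ S, MulAut.conj g • L ∈ S) :
    A ≤ normalizer ((sSup S : Subgroup X) : Set X) := by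
  intro g hg
  rw [mem_normalizer_iff_map_conj_eq, (gc_map_comap _).l_sSup]
  refine le_antisymm (iSup₂_le fun L hL => le_sSup (hinv g hg L hL)) (sSup_le fun L hL => ?_)
  refine le_trans (le_of_eq ?_) (le_iSup₂ (MulAut.conj g⁻¹ • L) (hinv _ (inv_mem hg) L hL))
  show L = MulAut.conj g • MulAut.conj g⁻¹ • L
  rw [Coprime.conj_smul_conj_smul, mul_inv_cancel, Coprime.conj_one_smul]

theorem conj_smul_commute_iff {g : X} {A B : Subgroup X} :
    MulAut.conj g • A ≤ centralizer ((MulAut.conj g • B : Subgroup X) : Set X) ↔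
      A ≤ centralizer (B : Set X) := by
  constructor <;> intro h a ha <;> rw [mem_centralizer_iff] <;> intro b hb
  · have := mem_centralizer_iff.1 (h (Coprime.conj_mem_conj_smul (g := g) ha)) _
      (Coprime.conj_mem_conj_smul (g := g) hb)
    calc b * a = g⁻¹ * (g * b * g⁻¹ * (g * a * g⁻¹)) * g := by group
      _ = g⁻¹ * (g * a * g⁻¹ * (g * b * g⁻¹)) * g := by rw [this]
      _ = _ := by group
  · rw [Coprime.mem_conj_smul] at ha
    rw [SetLike.mem_coe, Coprime.mem_conj_smul] at hb
    have := mem_centralizer_iff.1 (h ha) _ hb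
    calc b * a = g * (g⁻¹ * b * g * (g⁻¹ * a * g)) * g⁻¹ := by group
      _ = g * (g⁻¹ * a * g * (g⁻¹ * b * g)) * g⁻¹ := by rw [this]
      _ = _ := by group

/-- A component lies in or centralises each normal subgroup. -/
theorem IsComp.le_or_le_centralizer {A K N : Subgroup X} (hK : IsComp A K) (hN : N ≤ A)
    (hAN : A ≤ normalizer (N : Set X)) : K ≤ N ∨ K ≤ centralizer (N : Set X) := by
  haveI : (N.subgroupOf A).Normal := normal_subgroupOf_of_le_normalizer hAN
  rcases Components.IsComponent.le_or_commutator_eq_bot_of_normal hK.2 (N.subgroupOf A) with h | h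
  · refine Or.inl ?_
    rw [← map_subgroupOf_eq_of_le hK.1]
    exact (map_mono h).trans (le_of_eq (map_subgroupOf_eq_of_le hN))
  · refine Or.inr (commutator_eq_bot_iff_le_centralizer.1 ?_)
    rw [← map_subgroupOf_eq_of_le hK.1, ← map_subgroupOf_eq_of_le hN, ← map_commutator, h,
      Subgroup.map_bot]

/-- Members of a commuting quasisimple family are components of the join. -/
theorem isComp_sSup {S : Set (Subgroup X)} (hqs : ∀ K ∈ S, Cfsg.IsQuasisimple K)
    (hcomm : ∀ K ∈ S, ∀ L ∈ S, K ≠ L → K ≤ centralizer (L : Set X)) {K : Subgroup X}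
    (hK : K ∈ S) : IsComp (sSup S) K := by
  refine ⟨le_sSup hK, ?_, Components.isQuasisimple_congr
    (subgroupOfEquivOfLe (le_sSup hK)).symm (hqs K hK)⟩
  haveI : (K.subgroupOf (sSup S)).Normal := by
    refine normal_subgroupOf_of_le_normalizer (sSup_le fun L hL => ?_)
    by_cases e : L = K
    · subst e; exact le_normalizer
    · exact (hcomm L hL K hK e).trans (centralizer_le_normalizer _)
  exact Subgroup.Normal.isSubnormal inferInstance

theorem isComp_layer_le {G L : Subgroup X} (hL : IsComp G L) :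
    L ≤ (Cfsg.layer G).map G.subtype := by
  rw [← map_subgroupOf_eq_of_le hL.1]
  exact map_mono (Components.IsComponent.le_layer hL.2)

theorem layer_le_sSup (G : Subgroup X) :
    (Cfsg.layer G).map G.subtype ≤ sSup {L | IsComp G L} :=
  map_le_iff_le_comap.2 (sSup_le fun K hK =>
    map_le_iff_le_comap.1 (le_sSup (show IsComp G (K.map G.subtype) from ⟨map_subtype_le _, by
      rw [show (K.map G.subtype).subgroupOf G = K from
        comap_map_eq_self_of_injective G.subtype_injective K]
      exact hK⟩)))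

variable [Finite X]

/-- A perfect subgroup of the generalised Fitting subgroup lies in the layer. -/
theorem perfect_le_layer {G : Type u} [Group G] [Finite G] {P : Subgroup G} (hP : ⁅P, P⁆ = P)
    (h : P ≤ Cfsg.generalizedFittingSubgroup G) : P ≤ Cfsg.layer G := by
  set f := QuotientGroup.mk' (Cfsg.layer G)
  have h1 : P.map f ≤ (Cfsg.fittingSubgroup G).map f := by
    refine (map_mono h).trans ?_
    rw [Cfsg.generalizedFittingSubgroup, Subgroup.map_sup,
      (Subgroup.map_eq_bot_iff (H := Cfsg.layer G) (f := f)).2 (le_of_eq (QuotientGroup.ker_mk' _).symm),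
      bot_sup_eq]
  haveI : Group.IsNilpotent (Cfsg.fittingSubgroup G) := Solvable.fittingSubgroup_isNilpotent
  haveI hs : Group.IsSolvable ((Cfsg.fittingSubgroup G).map f) :=
    Group.isSolvable_of_surjective (f := f.subgroupMap (Cfsg.fittingSubgroup G))
      (f.subgroupMap_surjective _)
  haveI : Group.IsSolvable (P.map f) := Coprime.isSolvable_of_le h1
  haveI : Group.IsPerfect (P.map f) := Subgroup.isPerfect_iff.2 (by rw [← map_commutator, hP])
  have h2 : P.map f = ⊥ := by
    by_contra hne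
    haveI : Nontrivial (P.map f) := (nontrivial_iff_ne_bot _).2 hne
    exact Group.IsPerfect.not_isSolvable (P.map f) inferInstance
  rwa [Subgroup.map_eq_bot_iff, QuotientGroup.ker_mk'] at h2

/-- A subgroup fixed by a family member's `R`-action is centralised. -/
theorem family_commutator_eq {R : Subgroup X} {r : ℕ} [Fact r.Prime] (hR : Nat.card R = r)
    {S : Set (Subgroup X)} (hqs : ∀ K ∈ S, Cfsg.IsQuasisimple K)
    (hcomm : ∀ K ∈ S, ∀ L ∈ S, K ≠ L → K ≤ centralizer (L : Set X))
    (hinv : ∀ g ∈ R, ∀ L ∈ S, MulAut.conj g • L ∈ S)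
    (hcen : ∀ K ∈ S, ¬ K ≤ centralizer (R : Set X)) : ⁅sSup S, R⁆ = sSup S := by
  have hle : ⁅sSup S, R⁆ ≤ sSup S :=
    le_normalizer_iff_commutator_le_left.1 (le_normalizer_sSup hinv)
  refine le_antisymm hle (sSup_le fun K hK => ?_)
  refine ((isComp_sSup hqs hcomm hK).le_or_le_centralizer hle
    (Subgroup.normalizer_commutator_ge_left (sSup S) R)).resolve_right fun hc => ?_
  by_cases hfix : ∀ t ∈ R, MulAut.conj t • K = K
  · refine hcen K hK (commutator_eq_bot_iff_le_centralizer.1 ?_)
    refine Components.commutator_eq_bot_of_commutator_le_centralizer (qs_commutator_self (hqs K hK)) ?_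
    exact (commutator_mono (le_sSup hK) le_rfl).trans (le_centralizer_iff.1 hc)
  · push Not at hfix
    obtain ⟨t, ht, hne⟩ := hfix
    refine qs_not_le_centralizer (hqs K hK) fun k hk => ?_
    rw [mem_centralizer_iff]
    intro j hj
    have h1 : j * (t * k * t⁻¹) = t * k * t⁻¹ * j :=
      mem_centralizer_iff.1 (hcomm _ (hinv t ht K hK) K hK hne (Coprime.conj_mem_conj_smul hk)) j hj
    have hmem : k * t * k⁻¹ * t⁻¹ ∈ ⁅sSup S, R⁆ := by
      have := commutator_mem_commutator (le_sSup hK hk : k ∈ sSup S) ht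
      rwa [commutatorElement_def] at this
    have h2 : j * (k * t * k⁻¹ * t⁻¹) = k * t * k⁻¹ * t⁻¹ * j :=
      (mem_centralizer_iff.1 (hc hj) _ hmem).symm
    calc j * k = j * (k * t * k⁻¹ * t⁻¹) * (t * k * t⁻¹) := by group
      _ = k * t * k⁻¹ * t⁻¹ * (j * (t * k * t⁻¹)) := by rw [h2]; group
      _ = k * j := by rw [h1]; group

variable {G R : Subgroup X} {r : ℕ} [Fact r.Prime]

/-- The basic lemma on invariant families. -/
theorem family_le_layer (hS : ShultProp.{u}) (hR : Nat.card R = r)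
    (hcop : (Nat.card G).Coprime r) (hnorm : R ≤ normalizer (G : Set X))
    {S : Set (Subgroup X)} (hSG : ∀ K ∈ S, K ≤ G) (hqs : ∀ K ∈ S, Cfsg.IsQuasisimple K)
    (hcomm : ∀ K ∈ S, ∀ L ∈ S, K ≠ L → K ≤ centralizer (L : Set X))
    (hinv : ∀ g ∈ R ⊔ (G ⊓ centralizer (R : Set X)), ∀ L ∈ S, MulAut.conj g • L ∈ S)
    (hcen : ∀ K ∈ S, ¬ K ≤ centralizer (R : Set X)) :
    ∀ K ∈ S, K ≤ (Cfsg.layer G).map G.subtype := by
  have hrG : ¬ r ∣ Nat.card G :=
    (Fact.out : r.Prime).coprime_iff_not_dvd.1 hcop.symm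
  set Lay := (Cfsg.layer G).map G.subtype
  set F := (Cfsg.generalizedFittingSubgroup G).map G.subtype
  haveI : (Cfsg.fittingSubgroup G).Characteristic := Solvable.fittingSubgroup_characteristic
  have hFn : normalizer (G : Set X) ≤ normalizer (F : Set X) := by
    show _ ≤ normalizer ((((Cfsg.layer G) ⊔ Cfsg.fittingSubgroup G).map G.subtype : Subgroup X) : Set X)
    rw [Subgroup.map_sup]
    exact (le_inf (le_normalizer_map_char _) (le_normalizer_map_char _)).trans
      (normalizer_inf_normalizer_le_normalizer_sup _ _)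
  have hLn : normalizer (G : Set X) ≤ normalizer (Lay : Set X) := le_normalizer_map_char _
  have hJG : R ⊔ (G ⊓ centralizer (R : Set X)) ≤ normalizer (G : Set X) :=
    sup_le hnorm (inf_le_left.trans le_normalizer)
  set S2 := {K ∈ S | ¬ K ≤ Lay}
  have hinv2 : ∀ g ∈ R ⊔ (G ⊓ centralizer (R : Set X)), ∀ L ∈ S2, MulAut.conj g • L ∈ S2 := by
    rintro g hg L ⟨hL, hL'⟩
    refine ⟨hinv g hg L hL, fun hle => hL' ?_⟩
    rw [← Coprime.conj_smul_eq_self (hLn (hJG hg))] at hle
    exact pointwise_smul_le_pointwise_smul_iff.1 hle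
  set W := sSup S2
  have hWG : W ≤ G := sSup_le fun K hK => hSG K hK.1
  have hWperf : ⁅W, W⁆ = W := sSup_perfect fun K hK => qs_commutator_self (hqs K hK.1)
  have hqs2 : ∀ K ∈ S2, Cfsg.IsQuasisimple K := fun K hK => hqs K hK.1
  have hcomm2 : ∀ K ∈ S2, ∀ L ∈ S2, K ≠ L → K ≤ centralizer (L : Set X) :=
    fun K hK L hL => hcomm K hK.1 L hL.1
  have hWR : ⁅W, R⁆ = W := family_commutator_eq hR hqs2 hcomm2
    (fun g hg => hinv2 g (mem_sup_left hg)) fun K hK => hcen K hK.1
  have hJW := le_normalizer_sSup hinv2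
  have hlay : ∀ K : Subgroup X, ⁅K, K⁆ = K → K ≤ F → K ≤ Lay := by
    intro K hK hKF
    have hKG : K ≤ G := hKF.trans (map_subtype_le _)
    rw [← map_subgroupOf_eq_of_le hKG] at hKF ⊢
    refine map_mono (perfect_le_layer ?_ ((map_le_map_iff_of_injective G.subtype_injective).1 hKF))
    rw [commutator_subgroupOf hKG hKG, hK]
  -- `W` centralises `W ⊓ F`
  have hWF : W ≤ centralizer ((W ⊓ F : Subgroup X) : Set X) := by
    refine sSup_le fun K hK => ?_
    refine ((isComp_sSup hqs2 hcomm2 hK).le_or_le_centralizer inf_le_left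
      (le_normalizer_inf le_normalizer (hWG.trans (le_normalizer.trans hFn)))).resolve_left fun h => ?_
    exact hK.2 (hlay K (qs_commutator_self (hqs K hK.1)) (h.trans inf_le_right))
  have hWC : W ≤ centralizer ((F ⊓ centralizer (R : Set X) : Subgroup X) : Set X) := by
    refine le_centralizer_of_series hWperf ?_ hWF
    rw [commutator_le]
    intro c hc w hw
    obtain ⟨hcF, hcR⟩ := mem_inf.1 hc
    have hcG : c ∈ G := map_subtype_le _ hcF
    rw [commutatorElement_def]
    refine mem_inf.2 ⟨mul_mem ((mem_normalizer_iff.1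
      (hJW (mem_sup_right (mem_inf.2 ⟨hcG, hcR⟩))) w).1 hw) (inv_mem hw), ?_⟩
    rw [mul_assoc, mul_assoc, ← mul_assoc w c⁻¹]
    exact mul_mem hcF ((mem_normalizer_iff.1 (hFn (le_normalizer (hWG hw))) _).1 (inv_mem hcF))
  have hyp : Hyp r F W R :=
    { hR := hR
      hrM := fun hd => hrG (hd.trans (card_dvd_of_le (map_subtype_le _)))
      hrE := fun hd => hrG (hd.trans (card_dvd_of_le hWG))
      hRM := hnorm.trans hFn
      hEM := hWG.trans (le_normalizer.trans hFn)
      hRE := le_sup_left.trans hJW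
      hE := hWperf
      hER := hWR
      hfix := hWC }
  have hWle : W ≤ F := by
    intro w hw
    refine ⟨⟨w, hWG hw⟩, Components.centralizer_generalizedFitting_le_self ?_, rfl⟩
    rw [mem_centralizer_iff]
    intro y hy
    exact Subtype.ext (mem_centralizer_iff.1 (hyp.le_centralizer hS hw) y ⟨y, hy, rfl⟩)
  intro K hK
  by_contra hn
  exact hn ((le_sSup (show K ∈ S2 from ⟨hK, hn⟩)).trans (hlay W hWperf hWle))

/-- `S1933`. -/
theorem layer_le_layer (hS : ShultProp.{u}) (hR : Nat.card R = r)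
    (hcop : (Nat.card G).Coprime r) (hnorm : R ≤ normalizer (G : Set X)) {H : Subgroup X}
    (hHG : H ≤ G) (hHinv : R ⊔ (G ⊓ centralizer (R : Set X)) ≤ normalizer (H : Set X))
    (hHR : ⁅H, R⁆ = H) : (Cfsg.layer H).map H.subtype ≤ (Cfsg.layer G).map G.subtype := by
  set Lay := (Cfsg.layer G).map G.subtype
  set J := R ⊔ (G ⊓ centralizer (R : Set X))
  have hJR : J ≤ normalizer (R : Set X) :=
    sup_le le_normalizer (inf_le_right.trans (centralizer_le_normalizer _))
  set S := {K | IsComp H K ∧ ¬ K ≤ centralizer (R : Set X)}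
  have hinv : ∀ g ∈ J, ∀ L ∈ S, MulAut.conj g • L ∈ S := by
    rintro g hg L ⟨hL, hL'⟩
    refine ⟨hL.conj_smul (hHinv hg), fun hle => hL' ?_⟩
    rw [← Coprime.conj_smul_eq_self (hJR hg), conj_smul_commute_iff] at hle
    exact hle
  have hS' := family_le_layer hS hR hcop hnorm (S := S) (fun K hK => hK.1.1.trans hHG)
    (fun K hK => hK.1.qs)
    (fun K hK L hL e => commutator_eq_bot_iff_le_centralizer.1 (hK.1.commute hL.1 e)) hinv
    fun K hK => hK.2
  refine (layer_le_sSup H).trans (sSup_le fun K hK => ?_)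
  by_contra hn
  have hcen : ∀ h ∈ H, MulAut.conj h • K ≤ centralizer (R : Set X) := by
    intro h hh
    by_contra hc
    refine hn ?_
    have h1 := hS' _ ⟨hK.conj_smul (le_normalizer hh), hc⟩
    rw [← Coprime.conj_smul_eq_self ((le_normalizer_map_char (Cfsg.layer G))
      (le_normalizer (hHG hh)))] at h1
    exact pointwise_smul_le_pointwise_smul_iff.1 h1
  set N := sSup ((fun h : H => MulAut.conj (h : X) • K) '' Set.univ)
  have hHN : H ≤ normalizer (N : Set X) := by
    refine le_normalizer_sSup ?_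
    rintro g hg _ ⟨h, -, rfl⟩
    exact ⟨⟨g, hg⟩ * h, trivial, by rw [Coprime.conj_smul_conj_smul]; rfl⟩
  have hNR : N ≤ centralizer (R : Set X) := sSup_le (by
    rintro _ ⟨h, -, rfl⟩; exact hcen h h.2)
  have e1 : ⁅⁅R, N⁆, H⁆ = ⊥ := by
    rw [commutator_comm R N, commutator_eq_bot_iff_le_centralizer.2 hNR, commutator_bot_left]
  have e2 : ⁅⁅N, H⁆, R⁆ = ⊥ := eq_bot_iff.2
    ((commutator_mono (le_normalizer_iff_commutator_le_left.1 hHN) le_rfl).trans
      (commutator_eq_bot_iff_le_centralizer.2 hNR).le)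
  have e3 := commutator_commutator_eq_bot_of_rotate (H₁ := H) (H₂ := R) (H₃ := N) e1 e2
  rw [hHR] at e3
  have hKN : K ≤ N := le_sSup ⟨1, trivial, by simp⟩
  exact qs_not_le_centralizer hK.qs ((hK.1.trans
    (commutator_eq_bot_iff_le_centralizer.1 e3)).trans (centralizer_le hKN))

end CfsgLib.CoprimeLayer
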