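import Cfsg.Agent.CoprimeLayer.Basic
import Cfsg.Agent.Components.Balance
import Cfsg.Agent.ThompsonFpf.Nilpotency

/-!
# Components and the fixed points of an automorphism of prime order

If `E` centralises the fixed points of `R` on a semisimple group without proper invariant
sub-products, then `E` fixes every component, and centralises those moved by `R`.
-/

set_option autoImplicit false

namespace CfsgLib.CoprimeLayer

open Subgroup
open scoped Pointwise

universe u

variable {X : Type u} [Group X]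

theorem eq_zpowers_of_mem {R : Subgroup X} {r : ℕ} [Fact r.Prime] (hR : Nat.card R = r)
    {t : X} (ht : t ∈ R) (ht1 : t ≠ 1) : zpowers t = R := by
  have h := zpowers_eq_top_of_prime_card (g := (⟨t, ht⟩ : R)) hR fun e => ht1 (congrArg Subtype.val e)
  have := congrArg (map R.subtype) h
  rwa [MonoidHom.map_zpowers, ← MonoidHom.range_eq_map, R.range_subtype] at this

theorem centralizer_zpowers_eq' (x : X) :
    centralizer (zpowers x : Set X) = centralizer ({x} : Set X) := by
  rw [zpowers_eq_closure, centralizer_closure]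

/-- Conjugates of a subgroup by small powers of a generator of a prime order group moving it. -/
theorem conj_pow_injective {R L : Subgroup X} {r : ℕ} [Fact r.Prime] (hR : Nat.card R = r)
    {ρ : X} (hρ : ρ ∈ R) (hρ1 : ρ ≠ 1) (hmove : ¬ R ≤ normalizer (L : Set X)) {i j : ℕ}
    (hi : i < r) (hj : j < r) (h : MulAut.conj (ρ ^ i) • L = MulAut.conj (ρ ^ j) • L) : i = j := by
  have ho : orderOf ρ = r := by rw [← Nat.card_zpowers, eq_zpowers_of_mem hR hρ hρ1, hR]
  have hn : (ρ ^ i)⁻¹ * ρ ^ j ∈ normalizer (L : Set X) := by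
    rw [Coprime.mem_normalizer_iff_conj_smul_eq, ← Coprime.conj_smul_conj_smul, ← h,
      Coprime.conj_smul_conj_smul, inv_mul_cancel, Coprime.conj_one_smul]
  have h1 : (ρ ^ i)⁻¹ * ρ ^ j = 1 := by
    by_contra hne
    refine hmove ?_
    rw [← eq_zpowers_of_mem hR (mul_mem (inv_mem (pow_mem hρ i)) (pow_mem hρ j)) hne]
    exact zpowers_le.2 hn
  rw [inv_mul_eq_one] at h1
  exact pow_injOn_Iio_orderOf (by rw [ho]; exact hi) (by rw [ho]; exact hj) h1

/-- The diagonal of a moved component: a fixed point of `R` acting on `L` like a given element. -/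
theorem exists_diagonal {M L R : Subgroup X} {r : ℕ} [Fact r.Prime] (hR : Nat.card R = r)
    (hRM : R ≤ normalizer (M : Set X)) (hL : IsComp M L) (hmove : ¬ R ≤ normalizer (L : Set X))
    {x : X} (hx : x ∈ L) :
    ∃ d ∈ M ⊓ centralizer (R : Set X), x⁻¹ * d ∈ centralizer (L : Set X) ∧
      ∀ K, IsComp M K → (∀ t ∈ R, MulAut.conj t • L ≠ K) → d ∈ centralizer (K : Set X) := by
  have hr : r.Prime := Fact.out
  haveI : Finite R := Nat.finite_of_card_ne_zero (by rw [hR]; exact hr.ne_zero)
  haveI : Nontrivial R := by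
    rw [← Finite.one_lt_card_iff_nontrivial, hR]; exact hr.one_lt
  obtain ⟨⟨ρ, hρ⟩, hρ1'⟩ := exists_ne (1 : R)
  have hρ1 : ρ ≠ 1 := fun e => hρ1' (Subtype.ext e)
  have hz := eq_zpowers_of_mem hR hρ hρ1
  have ho : orderOf ρ = r := by rw [← Nat.card_zpowers, hz, hR]
  obtain ⟨N, hN⟩ : ∃ N, r = N + 1 := ⟨r - 1, by have := hr.pos; omega⟩
  have hcomp : ∀ i : ℕ, IsComp M (MulAut.conj (ρ ^ i) • L) := fun i =>
    hL.conj_smul (hRM (pow_mem hρ i))
  have hoc : Components.OrbitCommutes L ρ (N + 1) := by
    intro i hi j hj hij a ha b hb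
    have hne : MulAut.conj (ρ ^ i) • L ≠ MulAut.conj (ρ ^ j) • L := fun e =>
      hij (conj_pow_injective hR hρ hρ1 hmove (hN ▸ hi) (hN ▸ hj) e)
    exact commutatorElement_eq_one_iff_mul_comm.1 (by
      have := commutator_mem_commutator (Coprime.conj_mem_conj_smul (g := ρ ^ i) ha)
        (Coprime.conj_mem_conj_smul (g := ρ ^ j) hb)
      rwa [(hcomp i).commute (hcomp j) hne, mem_bot] at this)
  set d := Components.orbitProd ρ x (N + 1)
  have hdM : ∀ k, Components.orbitProd ρ x k ∈ M := by
    intro k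
    induction k with
    | zero => exact one_mem _
    | succ k ih => exact mul_mem ih ((mem_normalizer_iff.1 (hRM (pow_mem hρ k)) x).1 (hL.1 hx))
  have hdρ : ρ * d * ρ⁻¹ = d :=
    Components.orbitProd_commute_self hoc (by rw [← hN, ← ho]; exact pow_orderOf_eq_one ρ) hx
  refine ⟨d, mem_inf.2 ⟨hdM _, ?_⟩, ?_, ?_⟩
  · rw [← hz, centralizer_zpowers_eq', mem_centralizer_singleton_iff]
    exact (mul_inv_eq_iff_eq_mul.1 hdρ).symm
  · rw [mem_centralizer_iff]
    intro b hb
    show b * (x⁻¹ * d) = x⁻¹ * d * b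
    rw [show d = x * (ρ * Components.orbitProd ρ x N * ρ⁻¹) from Components.orbitProd_succ' ρ x N,
      inv_mul_cancel_left]
    exact (Components.commute_conj_orbitProd hoc hx hb (le_refl N)).eq
  · intro K hK hne
    suffices ∀ k, Components.orbitProd ρ x k ∈ centralizer (K : Set X) from this _
    intro k
    induction k with
    | zero => exact one_mem _
    | succ k ih =>
      exact mul_mem ih (commutator_eq_bot_iff_le_centralizer.1
        ((hcomp k).commute hK (hne _ (pow_mem hρ k))) (Coprime.conj_mem_conj_smul hx))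

/-- `L` meets its centraliser trivially when `M` is the product of its components and centreless. -/
theorem IsComp.inf_centralizer_eq_bot {M L : Subgroup X} (hL : IsComp M L)
    (htop : M ≤ sSup {K | IsComp M K}) (hZ : M ⊓ centralizer (M : Set X) = ⊥) :
    L ⊓ centralizer (L : Set X) = ⊥ := by
  refine eq_bot_iff.2 fun x hx => ?_
  rw [← hZ]
  obtain ⟨h1, h2⟩ := mem_inf.1 hx
  refine mem_inf.2 ⟨hL.1 h1, mem_centralizer_iff.2 fun m hm => ?_⟩
  suffices M ≤ centralizer ({x} : Set X) from
    mem_centralizer_singleton_iff.1 (this hm)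
  refine htop.trans (sSup_le fun K hK y hy => mem_centralizer_singleton_iff.2 ?_)
  by_cases e : L = K
  · subst e; exact mem_centralizer_iff.1 h2 y hy
  · exact mem_centralizer_iff.1
      (commutator_eq_bot_iff_le_centralizer.1 (hL.commute hK e) h1) y hy

/-- The components form one class under every invariance. -/
theorem IsComp.mem_of_invariant {M E R K : Subgroup X} (hK : IsComp M K)
    (htop : M ≤ sSup {K | IsComp M K})
    (hmin : ∀ N : Subgroup X, N ≤ M → E ≤ normalizer (N : Set X) → R ≤ normalizer (N : Set X) →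
      M ≤ normalizer (N : Set X) → N = ⊥ ∨ N = M)
    {S : Set (Subgroup X)} (hS : ∀ L ∈ S, IsComp M L) (hne : S.Nonempty)
    (hinv : ∀ g ∈ E ⊔ R, ∀ L ∈ S, MulAut.conj g • L ∈ S) : K ∈ S := by
  have hn : ∀ g ∈ E ⊔ R, g ∈ normalizer ((sSup S : Subgroup X) : Set X) := by
    intro g hg
    rw [mem_normalizer_iff_map_conj_eq, (gc_map_comap _).l_sSup]
    apply le_antisymm
    · exact iSup₂_le fun L hL => le_sSup (hinv g hg L hL)
    · refine sSup_le fun L hL => ?_
      refine le_trans (le_of_eq ?_) (le_iSup₂ (MulAut.conj g⁻¹ • L) (hinv _ (inv_mem hg) L hL))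
      show L = MulAut.conj g • MulAut.conj g⁻¹ • L
      rw [Coprime.conj_smul_conj_smul, mul_inv_cancel, Coprime.conj_one_smul]
  obtain ⟨L, hL⟩ := hne
  rcases hmin (sSup S) (sSup_le fun N hN => (hS N hN).1) (fun e he => hn e (mem_sup_left he))
    (fun e he => hn e (mem_sup_right he))
    (htop.trans (sSup_le fun A hA => by
      refine le_trans ?_ (le_refl _)
      intro a ha
      rw [mem_normalizer_iff_map_conj_eq, (gc_map_comap _).l_sSup]
      conv_rhs => rw [sSup_eq_iSup]
      exact iSup_congr fun B => iSup_congr fun hB =>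
        mem_normalizer_iff_map_conj_eq.1 (hA.le_normalizer_comp (hS B hB) ha))) with h' | h'
  · exact absurd (le_sSup hL) (fun hle => (hS L hL).not_commute
      (by rw [le_bot_iff.1 (hle.trans h'.le), commutator_bot_left]))
  · exact hK.mem_of_le_sSup hS (h' ▸ hK.1)

variable [Finite X] {M E R : Subgroup X} {r : ℕ} [Fact r.Prime]

/-- If some component is moved by `R`, then `E` centralises `M`. -/
theorem moved_case (h : Hyp r M E R) (htop : M ≤ sSup {K | IsComp M K})
    (hZ : M ⊓ centralizer (M : Set X) = ⊥)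
    (hmin : ∀ N : Subgroup X, N ≤ M → E ≤ normalizer (N : Set X) → R ≤ normalizer (N : Set X) →
      M ≤ normalizer (N : Set X) → N = ⊥ ∨ N = M)
    {L₀ : Subgroup X} (hL₀ : IsComp M L₀) (hmove₀ : ¬ R ≤ normalizer (L₀ : Set X)) :
    E ≤ centralizer (M : Set X) := by
  -- `E` maps a moved component into its `R`-orbit
  have hA : ∀ L, IsComp M L → ¬ R ≤ normalizer (L : Set X) → ∀ e ∈ E,
      ∃ t ∈ R, MulAut.conj t • L = MulAut.conj e • L := by
    intro L hL hmove e he
    by_contra! hne
    refine hL.not_commute (commutator_eq_bot_iff_le_centralizer.2 fun x hx => ?_)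
    obtain ⟨d, hd, hdc, hdK⟩ := exists_diagonal h.hR h.hRM hL hmove hx
    have hdL : d ∈ centralizer (L : Set X) := by
      have h1 := hdK _ (hL.conj_smul (h.hEM he)) hne
      rw [mem_centralizer_iff]
      intro y hy
      have h2 := mem_centralizer_iff.1 h1 _ (Coprime.conj_mem_conj_smul (g := e) hy)
      have h3 := mem_centralizer_iff.1 (h.hfix he) d hd
      calc y * d = e⁻¹ * (e * y * e⁻¹ * (e * d)) := by group
        _ = e⁻¹ * (e * y * e⁻¹ * d * e) := by rw [← h3]; group
        _ = e⁻¹ * (d * (e * y * e⁻¹) * e) := by rw [h2]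
        _ = e⁻¹ * (d * e) * y := by group
        _ = d * y := by rw [h3, inv_mul_cancel_left]
    have := mul_mem hdL (inv_mem hdc)
    rwa [mul_inv_rev, inv_inv, mul_inv_cancel_left] at this
  have hmoved : ∀ L : Subgroup X, ¬ R ≤ normalizer (L : Set X) → ∀ t ∈ R,
      ¬ R ≤ normalizer ((MulAut.conj t • L : Subgroup X) : Set X) := by
    intro L hmove t ht hfix
    refine hmove ?_
    have := Coprime.conj_smul_eq_self (hfix (inv_mem ht))
    rw [Coprime.conj_smul_conj_smul, inv_mul_cancel, Coprime.conj_one_smul] at this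
    exact this ▸ hfix
  -- all components lie in one orbit
  have hO : ∀ L, IsComp M L → ¬ R ≤ normalizer (L : Set X) → ∀ K, IsComp M K →
      K ∈ (fun t : R => MulAut.conj (t : X) • L) '' Set.univ := by
    intro L hL hmove K hK
    refine hK.mem_of_invariant htop hmin (S := (fun t : R => MulAut.conj (t : X) • L) '' Set.univ)
      ?_ ⟨L, 1, trivial, by simp⟩ ?_
    · rintro _ ⟨t, -, rfl⟩
      exact hL.conj_smul (h.hRM t.2)
    · rintro g hg _ ⟨t, -, rfl⟩
      rw [sup_comm] at hg
      rw [sup_comm] at hg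
      obtain ⟨e, he, s, hs, rfl⟩ := Coprime.exists_mul_of_mem_sup h.hRE hg
      simp only [Coprime.conj_smul_conj_smul]
      set u := s * (t : X) with hu
      have huR : u ∈ R := mul_mem hs t.2
      have he' : u⁻¹ * e * u ∈ E := by
        have := (mem_normalizer_iff.1 (h.hRE (inv_mem huR)) e).1 he
        rwa [inv_inv] at this
      obtain ⟨t', ht', e'⟩ := hA L hL hmove _ he'
      refine ⟨⟨u * t', mul_mem huR ht'⟩, trivial, ?_⟩
      show MulAut.conj (u * t') • L = MulAut.conj (e * s * t) • L
      rw [← Coprime.conj_smul_conj_smul, e', Coprime.conj_smul_conj_smul, hu]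
      congr 2
      group
  -- `E` fixes the components
  have hB : ∀ L, IsComp M L → ¬ R ≤ normalizer (L : Set X) → E ≤ normalizer (L : Set X) := by
    intro L hL hmove e he
    rw [Coprime.mem_normalizer_iff_conj_smul_eq]
    obtain ⟨t, ht, et⟩ := hA L hL hmove e he
    by_contra hne
    have ht1 : t ≠ 1 := by
      rintro rfl
      rw [Coprime.conj_one_smul] at et
      exact hne et.symm
    set A : Set (Subgroup X) := (fun f : E => MulAut.conj (f : X) • L) '' Set.univ
    have hclosed : ∀ n : ℕ, MulAut.conj (t ^ n) • L ∈ A := by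
      intro n
      induction n with
      | zero => exact ⟨1, trivial, by simp⟩
      | succ n ih =>
        obtain ⟨f, -, hf⟩ := ih
        simp only at hf
        refine ⟨⟨t * f * t⁻¹ * e, mul_mem ((mem_normalizer_iff.1 (h.hRE ht) f).1 f.2) he⟩, trivial, ?_⟩
        show MulAut.conj (t * f * t⁻¹ * e) • L = _
        rw [← Coprime.conj_smul_conj_smul, ← et, Coprime.conj_smul_conj_smul, inv_mul_cancel_right,
          ← Coprime.conj_smul_conj_smul, hf, Coprime.conj_smul_conj_smul, ← pow_succ']
    have hAO : A = (fun s : R => MulAut.conj (s : X) • L) '' Set.univ := by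
      refine subset_antisymm ?_ ?_
      · rintro _ ⟨f, -, rfl⟩
        exact hO L hL hmove _ (hL.conj_smul (h.hEM f.2))
      · rintro _ ⟨s, -, rfl⟩
        have hs : (s : X) ∈ zpowers t := by rw [eq_zpowers_of_mem h.hR ht ht1]; exact s.2
        obtain ⟨n, hn⟩ := (isOfFinOrder_of_finite t).mem_powers_iff_mem_zpowers.2 hs
        show MulAut.conj (s : X) • L ∈ A
        rw [← show t ^ n = (s : X) from hn]
        exact hclosed n
    have hinj : Function.Injective fun s : R => MulAut.conj (s : X) • L := by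
      intro a b hab
      by_contra hab'
      have hne' : (a : X)⁻¹ * b ≠ 1 := fun e => hab' (Subtype.ext (inv_mul_eq_one.1 e))
      refine hmove ?_
      rw [← eq_zpowers_of_mem h.hR (mul_mem (inv_mem a.2) b.2) hne', zpowers_le,
        Coprime.mem_normalizer_iff_conj_smul_eq, ← Coprime.conj_smul_conj_smul,
        ← show MulAut.conj (a : X) • L = MulAut.conj (b : X) • L from hab,
        Coprime.conj_smul_conj_smul, inv_mul_cancel, Coprime.conj_one_smul]
    letI : MulAction E (Subgroup X) :=
      MulAction.compHom _ ((MulAut.conj : X →* MulAut X).comp E.subtype)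
    have horb : MulAction.orbit E L = A := Set.image_univ.symm
    have h1 := MulAction.index_stabilizer E L
    rw [horb, hAO, Set.ncard_image_of_injective _ hinj, Set.ncard_univ, h.hR] at h1
    exact h.hrE (h1 ▸ index_dvd_card _)
  -- centralisation
  have hmovedAll : ∀ K, IsComp M K → ¬ R ≤ normalizer (K : Set X) := by
    intro K hK
    obtain ⟨t, -, rfl⟩ := hO L₀ hL₀ hmove₀ K hK
    exact hmoved L₀ hmove₀ t t.2
  have hC : ∀ L, IsComp M L → ∀ e ∈ E, ∀ x ∈ L, e * x * e⁻¹ = x := by
    intro L hL e he x hx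
    have hmove := hmovedAll L hL
    obtain ⟨d, hd, hdc, -⟩ := exists_diagonal h.hR h.hRM hL hmove hx
    have hn := hB L hL hmove he
    have h3 := mem_centralizer_iff.1 (h.hfix he) d hd
    have h4 : e * x * e⁻¹ * (e * (x⁻¹ * d) * e⁻¹) = d := by
      calc e * x * e⁻¹ * (e * (x⁻¹ * d) * e⁻¹) = (e * d) * e⁻¹ := by group
        _ = d := by rw [← h3, mul_inv_cancel_right]
    have hmem : x⁻¹ * (e * x * e⁻¹) ∈ L ⊓ centralizer (L : Set X) := by
      refine mem_inf.2 ⟨mul_mem (inv_mem hx) ((mem_normalizer_iff.1 hn x).1 hx), ?_⟩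
      have h5 : x⁻¹ * (e * x * e⁻¹) = (x⁻¹ * d) * (e * (x⁻¹ * d) * e⁻¹)⁻¹ := by
        conv_rhs => arg 1; rw [← h4]
        group
      rw [h5]
      exact mul_mem hdc (inv_mem ((mem_normalizer_iff.1
        (normalizer_le_normalizer_cent L hn) _).1 hdc))
    rw [hL.inf_centralizer_eq_bot htop hZ, mem_bot, inv_mul_eq_one] at hmem
    exact hmem.symm
  rw [le_centralizer_iff]
  refine htop.trans (sSup_le fun L hL x hx => mem_centralizer_iff.2 fun e he => ?_)
  exact mul_inv_eq_iff_eq_mul.1 (hC L hL e he x hx)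

/-- If `R` fixes every component, then so does `E`, and `M` is simple. -/
theorem fixed_case (h : Hyp r M E R) (htop : M ≤ sSup {K | IsComp M K})
    (hZ : M ⊓ centralizer (M : Set X) = ⊥)
    (hmin : ∀ N : Subgroup X, N ≤ M → E ≤ normalizer (N : Set X) → R ≤ normalizer (N : Set X) →
      M ≤ normalizer (N : Set X) → N = ⊥ ∨ N = M)
    (hfixed : ∀ L, IsComp M L → R ≤ normalizer (L : Set X)) {L : Subgroup X} (hL : IsComp M L) :
    L = M := by
  have hEn : ∀ K, IsComp M K → E ≤ normalizer (K : Set X) := by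
    intro K hK e he
    by_contra hn
    rw [Coprime.mem_normalizer_iff_conj_smul_eq] at hn
    -- a fixed point of `R` in `K`
    have hne : K ⊓ centralizer (R : Set X) ≠ ⊥ := by
      intro h0
      haveI : Nontrivial R := by
        rw [← Finite.one_lt_card_iff_nontrivial, h.hR]; exact (Fact.out : r.Prime).one_lt
      obtain ⟨⟨ρ, hρ⟩, hρ1⟩ := exists_ne (1 : R)
      have hz := eq_zpowers_of_mem h.hR hρ fun e => hρ1 (Subtype.ext e)
      have hnil := ThompsonFpf.isNilpotent_of_conj (p := r) K ρ (hfixed K hK hρ)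
        (by rw [show r = orderOf ρ by rw [← Nat.card_zpowers, hz, h.hR]]; exact pow_orderOf_eq_one ρ)
        (by rw [← centralizer_zpowers_eq', hz]; exact h0)
      refine Components.IsComponent.not_isSolvable hK.2 ?_
      exact Group.isSolvable_of_surjective
        (f := (subgroupOfEquivOfLe hK.1).symm.toMonoidHom) (MulEquiv.surjective _)
    obtain ⟨⟨x, hx⟩, hx1'⟩ := ne_bot_iff_exists_ne_one.1 hne
    have hx1 : x ≠ 1 := fun e => hx1' (Subtype.ext e)
    obtain ⟨hxK, hxR⟩ := mem_inf.1 hx
    have hxe : x ∈ MulAut.conj e • K := by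
      rw [Coprime.mem_conj_smul]
      have h3 := mem_centralizer_iff.1 (h.hfix he) x (mem_inf.2 ⟨hK.1 hxK, hxR⟩)
      rwa [mul_assoc, h3, inv_mul_cancel_left]
    have : x ∈ K ⊓ centralizer (K : Set X) := mem_inf.2 ⟨hxK,
      commutator_eq_bot_iff_le_centralizer.1 ((hK.conj_smul (h.hEM he)).commute hK hn) hxe⟩
    rw [hK.inf_centralizer_eq_bot htop hZ, mem_bot] at this
    exact hx1 this
  refine le_antisymm hL.1 (htop.trans (sSup_le fun K hK => le_of_eq ?_))
  refine hK.mem_of_invariant htop hmin (S := {L}) (by simp [hL]) ⟨L, rfl⟩ ?_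
  rintro g hg _ rfl
  exact Coprime.conj_smul_eq_self ((sup_le (hEn _ hL) (hfixed _ hL)) hg)

end CfsgLib.CoprimeLayer
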