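import Cfsg.Agent.CoprimeLayer.Outer
import Cfsg.Agent.CoprimeLayer.Basic
import Cfsg.Agent.ThompsonFpf.Nilpotency

/-!
# The simple case of the main lemma

Either `R` fixes a nontrivial 2-element, and induction makes `E` centralise an invariant Sylow
2-subgroup, or the Frattini argument replaces `E` by a subgroup acting on that Sylow subgroup.
-/

set_option autoImplicit false

namespace CfsgLib.CoprimeLayer

open Subgroup
open scoped commutatorElement

universe u

variable {X : Type u} [Group X] [Finite X]

theorem normalizer_le_normalizer_commutator {G : Type*} [Group G] (B : Subgroup G) :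
    normalizer (B : Set G) ≤ normalizer ((⁅B, B⁆ : Subgroup G) : Set G) := fun g hg => by
  rw [mem_normalizer_iff_map_conj_eq] at hg ⊢
  rw [map_commutator, hg]

theorem simple_case {r : ℕ} [Fact r.Prime] {M E R : Subgroup X} (h : Hyp r M E R)
    [IsSimpleGroup M] (hne : ¬ IsMulCommutative M)
    (ih : ∀ (M' E' : Subgroup X), Nat.card M' < Nat.card M → Hyp r M' E' R →
      E' ≤ centralizer (M' : Set X)) :
    E ≤ centralizer (M : Set X) := by
  haveI := Fact.mk Nat.prime_two
  have hr : r.Prime := Fact.out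
  have hsolvR : Group.IsSolvable R := by
    haveI : IsCyclic R := isCyclic_of_prime_card h.hR
    letI : CommGroup R := IsCyclic.commGroup
    infer_instance
  have hnotsol : ¬ Group.IsSolvable M := fun hs =>
    hne ⟨⟨fun a b => IsSimpleGroup.comm_iff_isSolvable.2 hs a b⟩⟩
  obtain ⟨S, hSR⟩ := Coprime.exists_invariant_sylow h.hRM
    (by rw [h.hR]; exact hr.coprime_iff_not_dvd.2 h.hrM) (Or.inl hsolvR) 2
  set T0 := (S : Subgroup M).map M.subtype
  have hT0M : T0 ≤ M := map_subtype_le _
  have hT2 : IsPGroup 2 T0 := S.2.map _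
  have hT0ne : T0 ≠ ⊥ := by
    intro e
    refine hnotsol (Cfsg.Agent.S0205.result ?_)
    rw [← Nat.not_even_iff_odd, even_iff_two_dvd]
    intro h2
    exact S.ne_bot_of_dvd_card h2 ((map_eq_bot_iff_of_injective _ M.subtype_injective).1 e)
  have hMn : ∀ T : Subgroup X, T ≤ T0 → T ≠ ⊥ → ¬ M ≤ normalizer (T : Set X) := by
    intro T hT hTne hM
    haveI : (T.subgroupOf M).Normal := normal_subgroupOf_of_le_normalizer hM
    rcases (inferInstance : (T.subgroupOf M).Normal).eq_bot_or_eq_top with e | e
    · exact hTne (by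
        rw [← map_subgroupOf_eq_of_le (hT.trans hT0M), e, Subgroup.map_bot])
    · refine hnotsol ?_
      have h2 : IsPGroup 2 M := hT2.to_le ((subgroupOf_eq_top.1 e).trans hT)
      haveI := h2.isNilpotent
      infer_instance
  have hT0lt : T0 < M := lt_of_le_of_ne hT0M fun e =>
    hMn T0 le_rfl hT0ne (e ▸ le_normalizer)
  have hcardlt : ∀ {A : Subgroup X}, A < M → Nat.card A < Nat.card M := fun {A} hA =>
    lt_of_le_of_ne (card_le_of_le hA.le) fun e => hA.ne (eq_of_le_of_card_ge hA.le e.ge)
  by_cases hU : T0 ⊓ centralizer (R : Set X) = ⊥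
  · -- Frattini argument
    set Γ := E ⊔ M
    have hΓM : Γ ≤ normalizer (M : Set X) := sup_le h.hEM le_normalizer
    have hΓR : R ≤ normalizer (Γ : Set X) :=
      (le_inf h.hRE h.hRM).trans (normalizer_inf_normalizer_le_normalizer_sup E M)
    set P : Subgroup X → Prop := fun Y => Y ≤ Γ ⊓ normalizer (T0 : Set X) ∧
      R ≤ normalizer (Y : Set X) ∧ Γ ≤ Y ⊔ M
    have hex : ∃ Y, P Y := by
      refine ⟨Γ ⊓ normalizer (T0 : Set X), le_rfl,
        le_normalizer_inf hΓR (hSR.trans le_normalizer), ?_⟩
      intro g hg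
      have hgM := hΓM hg
      set e : MulAut M := M.normalizerMonoidHom ⟨g, hgM⟩
      obtain ⟨m, hm⟩ := MulAction.exists_smul_eq M (e • S) S
      have hmg : (m : X) * g ∈ normalizer (T0 : Set X) := by
        refine mem_normalizer_fintype fun n hn => ?_
        obtain ⟨y, hy, rfl⟩ := hn
        refine ⟨m * e y * m⁻¹, ?_, ?_⟩
        · show m * e y * m⁻¹ ∈ (S : Subgroup M)
          rw [← hm, Sylow.coe_subgroup_smul]
          exact smul_mem_pointwise_smul _ (MulAut.conj m) _
            (smul_mem_pointwise_smul y e _ hy)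
        · show (m : X) * (g * (y : X) * g⁻¹) * (m : X)⁻¹ = (m : X) * g * (y : X) * ((m : X) * g)⁻¹
          group
      have hmΓ : (m : X) * g ∈ Γ := mul_mem (mem_sup_right m.2) hg
      rw [sup_comm, show g = (m : X)⁻¹ * ((m : X) * g) by group]
      exact mul_mem_sup (inv_mem m.2) (mem_inf.2 ⟨hmΓ, hmg⟩)
    obtain ⟨Y, ⟨hY, hYR, hYΓ⟩, hmin⟩ := (wellFounded_lt).has_min {Y | P Y} hex
    obtain ⟨hYΓ', hYT⟩ := le_inf_iff.1 hY
    have hYM : Y ≤ normalizer (M : Set X) := hYΓ'.trans hΓM
    have hYeq : Γ = Y ⊔ M := le_antisymm hYΓ (sup_le hYΓ' le_sup_right)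
    have small : ∀ D : Subgroup X, D ≤ Y → R ≤ normalizer (D : Set X) → E ≤ D ⊔ M → D = Y := by
      intro D hD hDR hDE
      by_contra hne'
      exact hmin D ⟨hD.trans hY, hDR, sup_le hDE le_sup_right⟩ (lt_of_le_of_ne hD hne')
    have hperf : ⁅Y, Y⁆ = Y := by
      refine small _ (commutator_le_self Y)
        (hYR.trans (normalizer_le_normalizer_commutator Y)) ?_
      rw [← h.hE]
      refine (commutator_mono (?_ : E ≤ Y ⊔ M) (?_ : E ≤ Y ⊔ M)).trans (commutator_sup_le hYM hYM)
        <;> exact le_sup_left.trans hYeq.le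
    have hYR' : ⁅Y, R⁆ = Y := by
      refine small _ (le_normalizer_iff_commutator_le_left.1 hYR)
        (Subgroup.normalizer_commutator_ge_right Y R) ?_
      conv_lhs => rw [← h.hER]
      refine (commutator_mono (?_ : E ≤ Y ⊔ M) le_rfl).trans (commutator_sup_le_left hYM h.hRM)
      exact le_sup_left.trans hYeq.le
    have hYr : ¬ r ∣ Nat.card Y := fun hd =>
      not_dvd_card_sup hr h.hEM h.hrE h.hrM (hd.trans (card_dvd_of_le hYΓ'))
    have hYC : Y ≤ centralizer (T0 : Set X) := ih T0 Y (hcardlt hT0lt)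
      { hR := h.hR
        hrM := fun hd => h.hrM (hd.trans (card_dvd_of_le hT0M))
        hrE := hYr
        hRM := hSR
        hEM := hYT
        hRE := hYR
        hE := hperf
        hER := hYR'
        hfix := fun y _ => by rw [hU]; simp [mem_centralizer_iff] }
    have hYCM := perfect_centralizes M hne Y hperf hYM S hYC
    -- the projection of `E` to `M`
    set D := Γ ⊓ centralizer (M : Set X)
    have hDR : R ≤ normalizer (D : Set X) := le_normalizer_inf_cent hΓR h.hRM
    have hED : E ≤ normalizer (D : Set X) :=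
      le_normalizer_inf_cent ((le_sup_left : E ≤ Γ).trans le_normalizer) h.hEM
    have hYD : Y ≤ D := le_inf hYΓ' hYCM
    set I := M ⊓ (E ⊔ D)
    have hIR : R ≤ normalizer (I : Set X) :=
      le_normalizer_inf h.hRM ((le_inf h.hRE hDR).trans (normalizer_inf_normalizer_le_normalizer_sup E D))
    have hEI : E ≤ D ⊔ I := by
      intro e he
      have hDM : M ≤ normalizer (D : Set X) :=
        (le_inf ((le_sup_right : M ≤ Γ).trans le_normalizer) (le_normalizer.trans
          (normalizer_le_normalizer_cent M))).trans inf_normalizer_le_normalizer_inf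
      obtain ⟨d, hd, m, hm, e'⟩ := Coprime.exists_mul_of_mem_sup hDM
        (sup_le_sup_right hYD M (hYΓ (mem_sup_left he : e ∈ Γ)))
      rw [← e']
      refine mul_mem_sup hd (mem_inf.2 ⟨hm, ?_⟩)
      rw [show m = d⁻¹ * e by rw [← e']; group]
      exact mul_mem (mem_sup_right (inv_mem hd)) (mem_sup_left he)
    have hDI : D ≤ normalizer (I : Set X) := fun d hd => by
      refine centralizer_le_normalizer _ ?_
      exact centralizer_le inf_le_left (mem_inf.1 hd).2
    have hIdis : ∀ x ∈ D, x ∈ M → x = 1 := by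
      intro x hx hxM
      by_contra hx1
      have hc : (⟨x, hxM⟩ : M) ∈ center M := mem_center_iff.2 fun g =>
        Subtype.ext (mem_centralizer_iff.1 (mem_inf.1 hx).2 g g.2)
      rcases (inferInstance : (center M).Normal).eq_bot_or_eq_top with h' | h'
      · rw [h', mem_bot] at hc
        exact hx1 (congrArg Subtype.val hc)
      · exact hne (center_eq_top_iff.1 h')
    have hIperf : ⁅I, I⁆ = I := by
      refine le_antisymm (commutator_le_self I) fun i hi => ?_
      have hDII : D ≤ normalizer ((⁅I, I⁆ : Subgroup X) : Set X) :=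
        hDI.trans (normalizer_le_normalizer_commutator I)
      have hsup : ⁅D ⊔ I, D ⊔ I⁆ ≤ ⁅I, I⁆ ⊔ D := by
        rw [sup_comm D I]
        refine commutator_sup_le ?_ ?_ <;>
        · refine le_normalizer_inf (inf_le_left.trans ((le_sup_right : M ≤ Γ).trans le_normalizer)) ?_
          exact inf_le_left.trans (le_normalizer.trans (normalizer_le_normalizer_cent M))
      have hsub : E ⊔ D ≤ ⁅I, I⁆ ⊔ D := sup_le (by
        conv_lhs => rw [← h.hE]
        exact (commutator_mono hEI hEI).trans hsup) le_sup_right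
      obtain ⟨j, hj, d, hd, e⟩ := Coprime.exists_mul_of_mem_sup hDII (hsub (mem_inf.1 hi).2)
      have hjM : j ∈ M := (commutator_le_self I hj).1
      have hd1 : d = 1 := hIdis d hd (by
        rw [show d = j⁻¹ * i by rw [← e]; group]
        exact mul_mem (inv_mem hjM) (mem_inf.1 hi).1)
      rw [← e, hd1, mul_one]
      exact hj
    have hIfix : I ≤ centralizer ((M ⊓ centralizer (R : Set X) : Subgroup X) : Set X) :=
      inf_le_right.trans (sup_le h.hfix
        (inf_le_right.trans (centralizer_le (inf_le_left : M ⊓ centralizer (R : Set X) ≤ M))))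
    have hcopI : ¬ r ∣ Nat.card I := fun hd => h.hrM (hd.trans (card_dvd_of_le inf_le_left))
    have hIcom : ⁅I, R⁆ = I := by
      refine le_antisymm (le_normalizer_iff_commutator_le_left.1 hIR) ?_
      have hsplit := Coprime.commutator_sup_centralizer hIR
        (by rw [h.hR]; exact hr.coprime_iff_not_dvd.2 hcopI) (Or.inl hsolvR)
      have hcen : I ≤ centralizer ((I ⊓ centralizer (R : Set X) : Subgroup X) : Set X) :=
        hIfix.trans (centralizer_le (SetLike.coe_subset_coe.2
          (inf_le_inf_right _ inf_le_left)))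
      conv_lhs => rw [← hIperf, ← hsplit]
      rw [commutator_le]
      intro a ha b hb
      have hCn : I ⊓ centralizer (R : Set X) ≤ normalizer ((⁅I, R⁆ : Subgroup X) : Set X) :=
        inf_le_left.trans (Subgroup.normalizer_commutator_ge_left I R)
      obtain ⟨a1, ha1, a2, ha2, rfl⟩ := Coprime.exists_mul_of_mem_sup hCn ha
      obtain ⟨b1, hb1, b2, hb2, rfl⟩ := Coprime.exists_mul_of_mem_sup hCn hb
      have hle : ⁅I, R⁆ ≤ I := le_normalizer_iff_commutator_le_left.1 hIR
      have ea : ∀ z ∈ I, Commute a2 z := fun z hz =>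
        mem_centralizer_iff.1 (hcen hz) a2 ha2
      have eb : ∀ z ∈ I, Commute b2 z := fun z hz =>
        mem_centralizer_iff.1 (hcen hz) b2 hb2
      have ee : ⁅a1 * a2, b1 * b2⁆ = ⁅a1, b1⁆ := by
        rw [commutatorElement_def, commutatorElement_def, mul_inv_rev, mul_inv_rev]
        calc a1 * a2 * (b1 * b2) * (a2⁻¹ * a1⁻¹) * (b2⁻¹ * b1⁻¹)
            = a1 * (a2 * (b1 * b2)) * a2⁻¹ * a1⁻¹ * b2⁻¹ * b1⁻¹ := by group
          _ = a1 * (b1 * b2 * a2) * a2⁻¹ * a1⁻¹ * b2⁻¹ * b1⁻¹ := by
              rw [(ea _ (mul_mem (hle hb1) hb2.1)).eq]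
          _ = a1 * b1 * (b2 * a1⁻¹) * b2⁻¹ * b1⁻¹ := by group
          _ = a1 * b1 * (a1⁻¹ * b2) * b2⁻¹ * b1⁻¹ := by rw [(eb _ (inv_mem (hle ha1))).eq]
          _ = _ := by group
      rw [ee, commutatorElement_def]
      exact mul_mem (mul_mem (mul_mem ha1 hb1) (inv_mem ha1)) (inv_mem hb1)
    have hI : I = ⊥ := by
      rcases eq_or_lt_of_le (inf_le_left : I ≤ M) with hIM | hIlt
      · exfalso
        have hz : M ⊓ centralizer (R : Set X) = ⊥ := eq_bot_iff.2 fun x hx => by
          rw [mem_bot]
          refine hIdis x (mem_inf.2 ⟨mem_sup_right (mem_inf.1 hx).1, ?_⟩) (mem_inf.1 hx).1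
          exact mem_centralizer_iff.2 fun y hy =>
            (mem_centralizer_iff.1 (hIfix (hIM.ge hy)) x hx).symm
        haveI : Nontrivial R := by
          rw [← Finite.one_lt_card_iff_nontrivial, h.hR]; exact hr.one_lt
        obtain ⟨⟨ρ, hρ⟩, hρ1⟩ := exists_ne (1 : R)
        have hρ1' : ρ ≠ 1 := fun e => hρ1 (Subtype.ext e)
        have hzp : zpowers ρ = R := by
          have h' := zpowers_eq_top_of_prime_card (g := (⟨ρ, hρ⟩ : R)) h.hR hρ1
          have := congrArg (map R.subtype) h'
          rwa [MonoidHom.map_zpowers, ← MonoidHom.range_eq_map, R.range_subtype] at this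
        have hnil := ThompsonFpf.isNilpotent_of_conj (p := r) M ρ (h.hRM hρ)
          (by rw [show r = orderOf ρ by rw [← Nat.card_zpowers, hzp, h.hR]]; exact pow_orderOf_eq_one ρ)
          (by rw [show centralizer ({ρ} : Set X) = centralizer (R : Set X) by
                rw [← hzp, zpowers_eq_closure, centralizer_closure]]; exact hz)
        exact hnotsol inferInstance
      · have hII := ih I I (hcardlt hIlt)
          { hR := h.hR, hrM := hcopI, hrE := hcopI, hRM := hIR, hEM := le_normalizer,
            hRE := hIR, hE := hIperf, hER := hIcom,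
            hfix := hIfix.trans (centralizer_le (SetLike.coe_subset_coe.2
              (inf_le_inf_right _ inf_le_left))) }
        rw [← hIperf, commutator_eq_bot_iff_le_centralizer.2 hII]
    rw [hI, sup_bot_eq] at hEI
    exact hEI.trans inf_le_right
  · -- `R` fixes a nontrivial 2-element
    set T := T0 ⊓ centralizer (E : Set X)
    have hTR : R ≤ normalizer (T : Set X) := le_normalizer_inf_cent hSR h.hRE
    have hUT : T0 ⊓ centralizer (R : Set X) ≤ T := le_inf inf_le_left
      ((inf_le_inf_right _ hT0M).trans (le_centralizer_iff.1 h.hfix))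
    have hTne : T ≠ ⊥ := fun e => hU (le_bot_iff.1 (e ▸ hUT))
    set M' := M ⊓ normalizer (T : Set X)
    have hM'lt : M' < M := lt_of_le_of_ne inf_le_left fun e =>
      hMn T inf_le_left hTne (e.ge.trans inf_le_right)
    have hEC : E ≤ centralizer (T : Set X) := le_centralizer_iff.1 inf_le_right
    have hET : E ≤ normalizer (normalizer (T : Set X) : Set X) :=
      hEC.trans ((centralizer_le_normalizer _).trans le_normalizer)
    have hRT : R ≤ normalizer (normalizer (T : Set X) : Set X) := hTR.trans le_normalizer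
    have hres := ih M' E (hcardlt hM'lt)
      { hR := h.hR
        hrM := fun hd => h.hrM (hd.trans (card_dvd_of_le inf_le_left))
        hrE := h.hrE
        hRM := le_normalizer_inf h.hRM hRT
        hEM := le_normalizer_inf h.hEM hET
        hRE := h.hRE
        hE := h.hE
        hER := h.hER
        hfix := h.hfix.trans (centralizer_le (SetLike.coe_subset_coe.2
          (inf_le_inf_right _ inf_le_left))) }
    have hTT : T = T0 := by
      by_contra hne'
      have hlt : T < T0 := lt_of_le_of_ne inf_le_left hne'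
      haveI := hT2.isNilpotent
      have hne2 : (T.subgroupOf T0) ≠ ⊤ := fun e =>
        absurd (subgroupOf_eq_top.1 e) (not_le_of_gt hlt)
      obtain ⟨d, hdN, hdH⟩ := SetLike.exists_of_lt
        (Group.normalizerCondition_of_isNilpotent (T.subgroupOf T0) (lt_top_iff_ne_top.2 hne2))
      have hdN' : (d : X) ∈ normalizer (T : Set X) := by
        rw [← mem_subgroupOf (K := T0), subgroupOf_normalizer_eq (inf_le_left : T ≤ T0)]
        exact hdN
      exact hdH (mem_subgroupOf.2 (mem_inf.2 ⟨d.2,
        le_centralizer_iff.1 hres (mem_inf.2 ⟨hT0M d.2, hdN'⟩)⟩))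
    exact perfect_centralizes M hne E h.hE h.hEM S (hEC.trans_eq (congrArg (fun A : Subgroup X => centralizer (A : Set X)) hTT))

end CfsgLib.CoprimeLayer
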