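import Cfsg.Agent.CoprimeLayer.Abelian
import Cfsg.Agent.CoprimeLayer.Semisimple
import Cfsg.Agent.CoprimeLayer.SimpleCase
import Cfsg.Agent.Solvable.Fitting

/-!
# The main lemma

A perfect group `E = [E, R]` centralising the fixed points of the coprime prime order group `R`
on `M` centralises `M`.
-/

set_option autoImplicit false

namespace CfsgLib.CoprimeLayer

open Subgroup
open scoped commutatorElement

universe u

variable {X : Type u} [Group X] [Finite X]

/-- The subgroup-valued version of a characteristic subgroup is invariant. -/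
theorem le_normalizer_map_char {M : Subgroup X} (C : Subgroup M) [C.Characteristic] :
    normalizer (M : Set X) ≤ normalizer ((C.map M.subtype : Subgroup X) : Set X) := by
  intro g hg
  refine mem_normalizer_fintype fun n hn => ?_
  obtain ⟨y, hy, rfl⟩ := hn
  refine ⟨M.normalizerMonoidHom ⟨g, hg⟩ y, ?_, rfl⟩
  exact (characteristic_iff_le_comap.1 inferInstance (M.normalizerMonoidHom ⟨g, hg⟩)) hy

/-- A minimal invariant nonabelian group is centreless and the product of its components. -/
theorem minimal_semisimple {M E R : Subgroup X} (hEM : E ≤ normalizer (M : Set X))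
    (hRM : R ≤ normalizer (M : Set X)) (hne : ¬ IsMulCommutative M)
    (hmin : ∀ N : Subgroup X, N ≤ M → E ≤ normalizer (N : Set X) → R ≤ normalizer (N : Set X) →
      M ≤ normalizer (N : Set X) → N = ⊥ ∨ N = M) :
    M ≤ sSup {K | IsComp M K} ∧ M ⊓ centralizer (M : Set X) = ⊥ := by
  have char : ∀ C : Subgroup M, C.Characteristic → C = ⊥ ∨ C = ⊤ := by
    intro C hC
    rcases hmin (C.map M.subtype) (map_subtype_le _) (hEM.trans (le_normalizer_map_char C))
      (hRM.trans (le_normalizer_map_char C)) (le_normalizer.trans (le_normalizer_map_char C))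
      with h | h
    · exact Or.inl ((map_eq_bot_iff_of_injective _ M.subtype_injective).1 h)
    · refine Or.inr (map_injective M.subtype_injective ?_)
      rw [h, ← MonoidHom.range_eq_map, M.range_subtype]
  have hZ : center M = ⊥ := (char _ inferInstance).resolve_right fun e =>
    hne (center_eq_top_iff.1 e)
  refine ⟨?_, by rw [← Components.map_subtype_center, hZ, Subgroup.map_bot]⟩
  have hlayer : Cfsg.layer M = ⊤ := by
    refine (char _ inferInstance).resolve_left fun e => ?_
    haveI hF : (Cfsg.fittingSubgroup M).Characteristic := by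
      refine characteristic_iff_map_le.2 fun φ => map_le_iff_le_comap.2 (sSup_le fun N hN => ?_)
      haveI := hN.1
      haveI := hN.2
      refine map_le_iff_le_comap.1 (le_sSup ⟨hN.1.map _ φ.surjective, ?_⟩)
      exact Group.nilpotent_of_mulEquiv (N.equivMapOfInjective φ.toMonoidHom φ.injective)
    have hgen : Cfsg.generalizedFittingSubgroup M = Cfsg.fittingSubgroup M := by
      rw [Cfsg.generalizedFittingSubgroup, e, bot_sup_eq]
    have hcent := Components.centralizer_generalizedFitting_le (G := M)
    rcases char _ hF with hb | ht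
    · rw [hgen, hb, coe_bot] at hcent
      refine hne ⟨⟨fun a b => ?_⟩⟩
      have ha : a ∈ (⊥ : Subgroup M) := hcent (by simp [mem_centralizer_iff])
      rw [mem_bot] at ha
      rw [ha, one_mul, mul_one]
    · haveI : Group.IsNilpotent (⊤ : Subgroup M) := by
        rw [← ht]; exact Solvable.fittingSubgroup_isNilpotent
      haveI : Group.IsNilpotent M := Group.nilpotent_of_mulEquiv Subgroup.topEquiv
      haveI : Nontrivial M := by
        by_contra h
        rw [not_nontrivial_iff_subsingleton] at h
        exact hne ⟨⟨fun a b => Subsingleton.elim _ _⟩⟩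
      exact Group.IsNilpotent.center_ne_bot (G := M) hZ
  calc M = (⊤ : Subgroup M).map M.subtype := by rw [← MonoidHom.range_eq_map, M.range_subtype]
    _ = (Cfsg.layer M).map M.subtype := by rw [hlayer]
    _ ≤ sSup {K | IsComp M K} := map_le_iff_le_comap.2 (sSup_le fun K hK =>
        map_le_iff_le_comap.1 (le_sSup (show IsComp M (K.map M.subtype) from ⟨map_subtype_le _, by
          rw [show (K.map M.subtype).subgroupOf M = K from
            comap_map_eq_self_of_injective M.subtype_injective K]
          exact hK⟩)))

theorem main_aux (hS : ShultProp.{u}) (r : ℕ) [Fact r.Prime] (n : ℕ) :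
    ∀ {X : Type u} [Group X] [Finite X] (M E R : Subgroup X), Nat.card M = n → Hyp r M E R →
      E ≤ centralizer (M : Set X) := by
  induction n using Nat.strong_induction_on with
  | _ n IH => ?_
  intro X _ _ M E R hn h
  by_cases hM : M = ⊥
  · subst hM
    exact fun e _ => by simp [mem_centralizer_iff]
  by_cases hred : ∃ N : Subgroup X, N ≤ M ∧ E ≤ normalizer (N : Set X) ∧
      R ≤ normalizer (N : Set X) ∧ M ≤ normalizer (N : Set X) ∧ N ≠ ⊥ ∧ N ≠ M
  · -- reduction
    obtain ⟨N, hNM, hEN, hRN, hMN, hN0, hN1⟩ := hred
    have hN : E ≤ centralizer (N : Set X) :=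
      IH _ (hn ▸ lt_of_le_of_ne (card_le_of_le hNM) fun e => hN1 (eq_of_le_of_card_ge hNM e.ge))
        N E R rfl
        { hR := h.hR
          hrM := fun hd => h.hrM (hd.trans (card_dvd_of_le hNM))
          hrE := h.hrE
          hRM := hRN
          hEM := hEN
          hRE := h.hRE
          hE := h.hE
          hER := h.hER
          hfix := h.hfix.trans (centralizer_le (SetLike.coe_subset_coe.2
            (inf_le_inf_right _ hNM))) }
    refine le_centralizer_of_series h.hE ?_ hN
    set H := normalizer (N : Set X)
    set N' := N.subgroupOf H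
    haveI : N'.Normal := normal_subgroupOf_of_le_normalizer le_rfl
    set f := QuotientGroup.mk' N'
    have hker : R.subgroupOf H ⊓ f.ker = ⊥ := by
      rw [QuotientGroup.ker_mk', show R.subgroupOf H ⊓ N' = (R ⊓ N).subgroupOf H from rfl,
        subgroupOf_eq_bot, disjoint_iff, eq_bot_iff]
      refine le_trans inf_le_left ?_
      rw [le_bot_iff]
      refine Coprime.inf_eq_bot_of_coprime ?_
      rw [h.hR]
      exact (Fact.out : r.Prime).coprime_iff_not_dvd.2 fun hd =>
        h.hrM (hd.trans (card_dvd_of_le hNM))
    have h' := (h.restrict hMN hEN hRN).map f hker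
    have hlt : Nat.card ((M.subgroupOf H).map f) < n := by
      rw [← hn, ← Nat.card_congr (subgroupOfEquivOfLe hMN).toEquiv]
      have hsur := f.subgroupMap_surjective (M.subgroupOf H)
      refine lt_of_le_of_ne (Nat.card_le_card_of_surjective _ hsur) fun e => hN0 ?_
      have hinj := (Nat.bijective_iff_surjective_and_card _).2 ⟨hsur, e.symm⟩
      refine eq_bot_iff.2 fun x hx => ?_
      have hxH : x ∈ H := le_normalizer hx
      have hxM : (⟨x, hxH⟩ : H) ∈ M.subgroupOf H := mem_subgroupOf.2 (hNM hx)
      have : (⟨⟨x, hxH⟩, hxM⟩ : M.subgroupOf H) = 1 := hinj.1 (Subtype.ext (by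
        show f ⟨x, hxH⟩ = f 1
        rw [map_one]
        exact (QuotientGroup.eq_one_iff _).2 (mem_subgroupOf.2 hx)))
      exact congrArg (fun z : M.subgroupOf H => ((z : H) : X)) this
    have hq := IH _ hlt _ _ _ rfl h'
    rw [commutator_le]
    intro m hm e he
    have hmem : f ⁅(⟨m, hMN hm⟩ : H), ⟨e, hEN he⟩⁆ = 1 := by
      rw [map_commutatorElement, commutatorElement_eq_one_iff_mul_comm]
      exact mem_centralizer_iff.1 (hq (mem_map_of_mem f (mem_subgroupOf.2 he))) _
        (mem_map_of_mem f (mem_subgroupOf.2 hm))
    exact mem_subgroupOf.1 ((QuotientGroup.eq_one_iff _).1 hmem)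
  · -- `M` is minimal
    push Not at hred
    have hmin : ∀ N : Subgroup X, N ≤ M → E ≤ normalizer (N : Set X) →
        R ≤ normalizer (N : Set X) → M ≤ normalizer (N : Set X) → N = ⊥ ∨ N = M :=
      fun N a b c d => or_iff_not_imp_left.2 fun e => hred N a b c d e
    by_cases hab : IsMulCommutative M
    · exact abelian_case hS h hM hmin
    obtain ⟨htop, hZ⟩ := minimal_semisimple h.hEM h.hRM hab hmin
    by_cases hmove : ∃ L, IsComp M L ∧ ¬ R ≤ normalizer (L : Set X)
    · obtain ⟨L, hL, hL'⟩ := hmove
      exact moved_case h htop hZ hmin hL hL'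
    push Not at hmove
    obtain ⟨L, hL⟩ : ∃ L, IsComp M L := by
      by_contra! hno
      refine hM (le_bot_iff.1 (htop.trans (sSup_le fun K hK => (hno K hK).elim)))
    have hLM := fixed_case h htop hZ hmin hmove hL
    subst hLM
    haveI : IsSimpleGroup L := by
      have hq : Cfsg.IsQuasisimple L := by
        have := hL.2.2
        rw [subgroupOf_self] at this
        exact Components.isQuasisimple_congr Subgroup.topEquiv this
      have hc : center L = ⊥ := by
        rw [← map_eq_bot_iff_of_injective _ L.subtype_injective, Components.map_subtype_center]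
        exact hZ
      haveI := hq.2
      haveI : Nontrivial L := Components.IsQuasisimple.nontrivial hq
      exact ((QuotientGroup.quotientMulEquivOfEq hc).trans
        QuotientGroup.quotientBot).isSimpleGroup_congr.1 hq.2
    exact simple_case h hab fun M' E' hlt h' => IH _ (hn ▸ hlt) M' E' R rfl h'

/-- The main lemma. -/
theorem Hyp.le_centralizer (hS : ShultProp.{u}) {r : ℕ} [Fact r.Prime] {M E R : Subgroup X}
    (h : Hyp r M E R) : E ≤ centralizer (M : Set X) :=
  main_aux hS r _ M E R rfl h

end CfsgLib.CoprimeLayer
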