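import Cfsg.Agent.CoprimeLayer.Transfer
import Cfsg.Agent.Fusion.ZStarElements
import Cfsg.Agent.AlperinGoldschmidt.Strong
import Cfsg.Agent.Coprime.Basic
import Cfsg.Agent.S0205

/-!
# Perfect groups centralising a Sylow `2`-subgroup of a simple normal subgroup

By Alperin's theorem and the transfer lemma a 2-element in the derived group of the centraliser
of a Sylow 2-subgroup is isolated, so the `Z*`-theorem makes it centralise the simple group.
-/

set_option autoImplicit false

namespace CfsgLib.CoprimeLayer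

open Subgroup

universe u

/-- The normaliser of a subgroup normalises its centraliser. -/
theorem normalizer_le_normalizer_centr {G : Type*} [Group G] (V : Subgroup G) :
    normalizer (V : Set G) ≤ normalizer (centralizer (V : Set G) : Set G) := by
  intro g hg
  rw [mem_normalizer_iff]
  intro x
  simp only [mem_centralizer_iff, SetLike.mem_coe]
  constructor
  · intro hx v hv
    have h := hx (g⁻¹ * v * g⁻¹⁻¹) ((mem_normalizer_iff.1 (inv_mem hg) v).1 hv)
    rw [inv_inv] at h
    calc v * (g * x * g⁻¹) = g * (g⁻¹ * v * g * x) * g⁻¹ := by group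
      _ = g * (x * (g⁻¹ * v * g)) * g⁻¹ := by rw [h]
      _ = _ := by group
  · intro hx v hv
    have h := hx (g * v * g⁻¹) ((mem_normalizer_iff.1 hg v).1 hv)
    calc v * x = g⁻¹ * (g * v * g⁻¹ * (g * x * g⁻¹)) * g := by group
      _ = g⁻¹ * (g * x * g⁻¹ * (g * v * g⁻¹)) * g := by rw [h]
      _ = _ := by group

/-- The intersection with the normal subgroup of a tame centric subgroup is almost all of its
centraliser there. -/
theorem not_dvd_relIndex {G : Type u} [Group G] [Finite G] (W : Sylow 2 G) (M : Subgroup G)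
    [M.Normal] (H : Subgroup G) (hHW : H ≤ (W : Subgroup G))
    (hcent : (W : Subgroup G) ⊓ centralizer (H : Set G) ≤ H)
    (hsyl : ¬ 2 ∣ ((W : Subgroup G) ⊓ normalizer (H : Set G)).relIndex (normalizer (H : Set G)))
    (hgen : ∀ h ∈ H, ∃ m ∈ H ⊓ M, ∀ w ∈ (W : Subgroup G), Commute (m⁻¹ * h) w) :
    ¬ 2 ∣ (H ⊓ M).relIndex (M ⊓ centralizer ((H ⊓ M : Subgroup G) : Set G)) := by
  intro hdvd
  set Q := H ⊓ M
  set C := M ⊓ centralizer ((Q : Subgroup G) : Set G)
  have hHQ : H ≤ normalizer (Q : Set G) :=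
    (le_inf le_normalizer le_normalizer_of_normal).trans inf_normalizer_le_normalizer_inf
  have hHC : H ≤ normalizer (C : Set G) := by
    refine (le_inf (le_normalizer_of_normal (H := M)) ?_).trans inf_normalizer_le_normalizer_inf
    exact hHQ.trans (normalizer_le_normalizer_centr Q)
  have hH2 : IsPGroup 2 H := W.2.to_le hHW
  set K := C ⊔ H
  obtain ⟨T, hHT⟩ := (hH2.of_equiv (subgroupOfEquivOfLe (le_sup_right : H ≤ K)).symm).exists_le_sylow
  set T' := (T : Subgroup K).map K.subtype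
  have hT2 : IsPGroup 2 T' := T.2.map _
  have hHT' : H ≤ T' := fun h hh => ⟨⟨h, mem_sup_right hh⟩, hHT (mem_subgroupOf.2 hh), rfl⟩
  rcases eq_or_lt_of_le hHT' with heq | hlt
  · -- `H` is a Sylow subgroup of `C H`
    obtain ⟨P, hP⟩ := (hH2.to_le (inf_le_left : H ⊓ C ≤ H)).of_equiv
      (subgroupOfEquivOfLe (inf_le_right : H ⊓ C ≤ C)).symm |>.exists_le_sylow
    have hPK : ((P : Subgroup C).map C.subtype).subgroupOf K ≤ ⊤ := le_top
    have hP2 : IsPGroup 2 (((P : Subgroup C).map C.subtype).subgroupOf K) :=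
      (P.2.map _).of_equiv (subgroupOfEquivOfLe ((map_subtype_le _).trans le_sup_left)).symm
    obtain ⟨P', hP'⟩ := hP2.exists_le_sylow
    obtain ⟨k, hk⟩ := MulAction.exists_smul_eq K P' T
    have hcard : Nat.card P ≤ Nat.card (Q.subgroupOf C) := by
      let φ : P → Q.subgroupOf C := fun y => ⟨⟨(k : G) * ((y : C) : G) * (k : G)⁻¹, by
        have hkC : (k : G) ∈ normalizer (C : Set G) := (sup_le le_normalizer hHC) k.2
        exact (mem_normalizer_iff.1 hkC _).1 (y : C).2⟩, by
        refine mem_subgroupOf.2 (mem_inf.2 ⟨?_, ?_⟩)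
        · show (k : G) * ((y : C) : G) * (k : G)⁻¹ ∈ H
          rw [heq]
          have hy : (⟨((y : C) : G), mem_sup_left (y : C).2⟩ : K) ∈ (P' : Subgroup K) :=
            hP' (mem_subgroupOf.2 ⟨(y : C), y.2, rfl⟩)
          refine ⟨k * ⟨((y : C) : G), mem_sup_left (y : C).2⟩ * k⁻¹, ?_, by simp⟩
          rw [← hk, Sylow.coe_subgroup_smul]
          exact Subgroup.smul_mem_pointwise_smul _ (MulAut.conj k) _ hy
        · exact (inferInstance : M.Normal).conj_mem _ (mem_inf.1 (y : C).2).1 _⟩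
      refine Nat.card_le_card_of_injective φ fun y z hyz => ?_
      have h := congrArg (fun a : Q.subgroupOf C => ((a : C) : G)) hyz
      exact Subtype.ext (Subtype.ext (mul_left_cancel (mul_right_cancel h)))
    have hQC : (Q.subgroupOf C) ≤ (P : Subgroup C) := fun y hy =>
      hP (mem_subgroupOf.2 ⟨(mem_inf.1 (mem_subgroupOf.1 hy)).1, y.2⟩)
    have hQP := eq_of_le_of_card_ge hQC hcard
    exact P.not_dvd_index (hQP ▸ hdvd)
  · -- normalisers grow
    haveI := hT2.isNilpotent
    have hne : (H.subgroupOf T') ≠ ⊤ := fun e => absurd (subgroupOf_eq_top.1 e) (not_le_of_gt hlt)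
    obtain ⟨d, hdN, hdH⟩ := SetLike.exists_of_lt
      (Group.normalizerCondition_of_isNilpotent (H.subgroupOf T') (lt_top_iff_ne_top.2 hne))
    have hdH' : (d : G) ∉ H := fun h => hdH (mem_subgroupOf.2 h)
    have hdN' : (d : G) ∈ normalizer (H : Set G) := by
      have h := subgroupOf_normalizer_eq hHT' ▸ hdN
      exact h
    obtain ⟨n, -, hn⟩ : ∃ n ∈ (⊤ : Subgroup G), True := ⟨1, trivial, trivial⟩
    -- the part in `C`
    have hdK : (d : G) ∈ K := map_subtype_le _ d.2
    obtain ⟨y, hy, h, hh, hyh⟩ := Coprime.exists_mul_of_mem_sup hHC hdK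
    have hyT : y ∈ T' := by
      rw [show y = (d : G) * h⁻¹ by rw [← hyh]; group]
      exact mul_mem d.2 (inv_mem (hHT' hh))
    have hyH : y ∉ H := fun h' => hdH' (hyh ▸ mul_mem h' hh)
    have hyN : y ∈ normalizer (H : Set G) := by
      rw [show y = (d : G) * h⁻¹ by rw [← hyh]; group]
      exact mul_mem hdN' (inv_mem (le_normalizer hh))
    -- conjugate it into the Sylow subgroup of the normaliser
    set N := normalizer (H : Set G)
    have hsy : IsPGroup 2 (((W : Subgroup G) ⊓ N).subgroupOf N) :=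
      (W.2.to_le inf_le_left).of_equiv (subgroupOfEquivOfLe inf_le_right).symm
    let SN : Sylow 2 N := hsy.toSylow hsyl
    have hy2 : IsPGroup 2 ((zpowers y).subgroupOf N) :=
      (hT2.to_le (zpowers_le.2 hyT)).of_equiv (subgroupOfEquivOfLe (zpowers_le.2 hyN)).symm
    obtain ⟨SY, hSY⟩ := hy2.exists_le_sylow
    obtain ⟨x, hx⟩ := MulAction.exists_smul_eq N SY SN
    have hxy : (x : G) * y * (x : G)⁻¹ ∈ (W : Subgroup G) := by
      have h1 : x * (⟨y, hyN⟩ : N) * x⁻¹ ∈ ((W : Subgroup G) ⊓ N).subgroupOf N := by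
        show _ ∈ (SN : Subgroup N)
        rw [← hx, Sylow.coe_subgroup_smul]
        exact Subgroup.smul_mem_pointwise_smul _ (MulAut.conj x) _
          (hSY (mem_subgroupOf.2 (mem_zpowers y)))
      exact (mem_inf.1 (mem_subgroupOf.1 h1)).1
    refine hyH ?_
    have hxH : (x : G) * y * (x : G)⁻¹ ∈ H := by
      refine hcent (mem_inf.2 ⟨hxy, ?_⟩)
      rw [mem_centralizer_iff]
      intro h' hh'
      obtain ⟨m, hm, hmw⟩ := hgen h' hh'
      have h1 : (x : G)⁻¹ * m * x ∈ Q := by
        have hxQ : (x : G)⁻¹ ∈ normalizer (Q : Set G) :=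
          inf_normalizer_le_normalizer_inf (mem_inf.2 ⟨inv_mem x.2, le_normalizer_of_normal (mem_top _)⟩)
        have := (mem_normalizer_iff.1 hxQ m).1 hm
        rwa [inv_inv] at this
      have h2 : Commute ((x : G)⁻¹ * m * x) y := mem_centralizer_iff.1 (mem_inf.1 hy).2 _ h1
      have h3 : Commute m ((x : G) * y * (x : G)⁻¹) := by
        show m * ((x : G) * y * (x : G)⁻¹) = (x : G) * y * (x : G)⁻¹ * m
        calc m * ((x : G) * y * (x : G)⁻¹) = (x : G) * ((x : G)⁻¹ * m * x * y) * (x : G)⁻¹ := by group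
          _ = (x : G) * (y * ((x : G)⁻¹ * m * x)) * (x : G)⁻¹ := by rw [h2.eq]
          _ = _ := by group
      have h4 := h3.mul_left (hmw _ hxy)
      rw [mul_inv_cancel_left] at h4
      exact h4.eq
    have := (mem_normalizer_iff.1 x.2 y).2 hxH
    exact this

/-- A 2-element of the derived group of `B` centralises `M`. -/
theorem two_element_centralizes {X : Type u} [Group X] [Finite X] (M : Subgroup X)
    [hsimple : IsSimpleGroup M] (hne : ¬ IsMulCommutative M) (B : Subgroup X)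
    (hBM : B ≤ normalizer (M : Set X)) (S : Sylow 2 M)
    (hBS : B ≤ centralizer (((S : Subgroup M).map M.subtype : Subgroup X) : Set X)) {c : X}
    (hc : c ∈ ⁅B, B⁆) {k : ℕ} (hc2 : orderOf c = 2 ^ k) : c ∈ centralizer (M : Set X) := by
  set T := (S : Subgroup M).map M.subtype
  have hcB : c ∈ B := commutator_le_self B hc
  have hcM : zpowers c ≤ normalizer (M : Set X) := zpowers_le.2 (hBM hcB)
  set G0 := M ⊔ zpowers c with hG0
  have hG0M : G0 ≤ normalizer (M : Set X) := sup_le le_normalizer hcM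
  set M0 := M.subgroupOf G0
  haveI : M0.Normal := (normal_subgroupOf_iff_le_normalizer le_sup_left).2 hG0M
  set c0 : G0 := ⟨c, mem_sup_right (mem_zpowers c)⟩
  have decomp : ∀ g : G0, ∃ m ∈ M0, ∃ i : ℤ, g = m * c0 ^ i := by
    intro g
    obtain ⟨m, hm, b, hb, e⟩ := Coprime.exists_mul_of_mem_sup hcM g.2
    obtain ⟨i, rfl⟩ := mem_zpowers_iff.1 hb
    exact ⟨⟨m, mem_sup_left hm⟩, mem_subgroupOf.2 hm, i, Subtype.ext (by simp [c0, e])⟩
  have hTc : T ≤ centralizer ({c} : Set X) := fun t ht =>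
    mem_centralizer_singleton_iff.2 (mem_centralizer_iff.1 (hBS hcB) t ht)
  -- a Sylow subgroup through `T` and `c`
  have hTp : IsPGroup 2 T := S.2.map _
  have hTn : zpowers c ≤ normalizer (T : Set X) :=
    (zpowers_le.2 (hBS hcB)).trans (centralizer_le_normalizer _)
  have hcp : IsPGroup 2 (zpowers c) := IsPGroup.of_card (n := k) (by rw [Nat.card_zpowers, hc2])
  have hTc2 : IsPGroup 2 (T ⊔ zpowers c : Subgroup X) := hTp.to_sup_of_normal_left' hcp hTn
  have hle : T ⊔ zpowers c ≤ G0 := sup_le_sup_right (map_subtype_le _) _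
  obtain ⟨W, hW⟩ := (hTc2.of_equiv (subgroupOfEquivOfLe hle).symm).exists_le_sylow
  have hcW : c0 ∈ (W : Subgroup G0) := hW (mem_subgroupOf.2 (mem_sup_right (mem_zpowers c)))
  have hWM : ∀ w ∈ (W : Subgroup G0), w ∈ M0 → (w : X) ∈ T := by
    intro w hw hwM
    set W1 : Subgroup M := ((W : Subgroup G0).map G0.subtype).subgroupOf M
    have h1 : (S : Subgroup M) ≤ W1 := fun y hy => mem_subgroupOf.2
      ⟨⟨y, mem_sup_left y.2⟩, hW (mem_subgroupOf.2 (mem_sup_left ⟨y, hy, rfl⟩)), rfl⟩
    have h2 : IsPGroup 2 W1 := (W.2.map _).comap_subtype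
    have h3 := S.3 h2 h1
    exact ⟨⟨(w : X), mem_subgroupOf.1 hwM⟩, h3 ▸ mem_subgroupOf.2 ⟨w, hw, rfl⟩, rfl⟩
  have hWc : ∀ w ∈ (W : Subgroup G0), Commute w c0 := by
    intro w hw
    obtain ⟨m, hm, i, rfl⟩ := decomp w
    have hmW : m ∈ (W : Subgroup G0) := (mul_mem_cancel_right (zpow_mem hcW i)).1 hw
    refine Commute.mul_left ?_ ((Commute.refl c0).zpow_left i)
    exact Subtype.ext (mem_centralizer_singleton_iff.1 (hTc (hWM m hmW hm)))
  have hgen : ∀ (H : Subgroup G0), c0 ∈ H → ∀ h ∈ H, ∃ m ∈ H ⊓ M0,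
      ∀ w ∈ (W : Subgroup G0), Commute (m⁻¹ * h) w := by
    intro H hcH h hh
    obtain ⟨m, hm, i, rfl⟩ := decomp h
    refine ⟨m, mem_inf.2 ⟨(mul_mem_cancel_right (zpow_mem hcH i)).1 hh, hm⟩, fun w hw => ?_⟩
    rw [inv_mul_cancel_left]
    exact ((hWc w hw).symm.zpow_left i)
  -- one step of a fusion chain
  have step : ∀ H : Subgroup G0, H ≤ (W : Subgroup G0) → c0 ∈ H →
      (W : Subgroup G0) ⊓ centralizer (H : Set G0) ≤ H →
      ¬ 2 ∣ ((W : Subgroup G0) ⊓ normalizer (H : Set G0)).relIndex (normalizer (H : Set G0)) →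
      ∀ x ∈ normalizer (H : Set G0), Commute x c0 := by
    intro H hHW hcH hcent hsyl x hx
    obtain ⟨l, hl, i, rfl⟩ := decomp x
    have hlN : l ∈ normalizer (H : Set G0) :=
      (mul_mem_cancel_right (zpow_mem (le_normalizer hcH) i)).1 hx
    refine Commute.mul_left ?_ ((Commute.refl c0).zpow_left i)
    have hidx := not_dvd_relIndex W M0 H hHW hcent hsyl (hgen H hcH)
    set Q0 := H ⊓ M0
    set Q := Q0.map G0.subtype
    have hmapC : (M0 ⊓ centralizer ((Q0 : Subgroup G0) : Set G0)).map G0.subtype =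
        M ⊓ centralizer (Q : Set X) := by
      ext z
      constructor
      · rintro ⟨y, hy, rfl⟩
        obtain ⟨hy1, hy2⟩ := mem_inf.1 hy
        refine mem_inf.2 ⟨mem_subgroupOf.1 hy1, ?_⟩
        rw [mem_centralizer_iff]
        rintro _ ⟨q, hq, rfl⟩
        exact congrArg Subtype.val (mem_centralizer_iff.1 hy2 q hq)
      · intro hz
        obtain ⟨hz1, hz2⟩ := mem_inf.1 hz
        refine ⟨⟨z, mem_sup_left hz1⟩, mem_inf.2 ⟨mem_subgroupOf.2 hz1, ?_⟩, rfl⟩
        rw [mem_centralizer_iff]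
        intro q hq
        exact Subtype.ext (mem_centralizer_iff.1 hz2 _ ⟨q, hq, rfl⟩)
    rw [← relIndex_map_map_of_injective (f := G0.subtype) _ _ Subtype.val_injective, hmapC] at hidx
    have hQT : Q ≤ T := by
      rintro _ ⟨q, hq, rfl⟩
      exact hWM q (hHW (mem_inf.1 hq).1) (mem_inf.1 hq).2
    have hlQ : (l : X) ∈ normalizer (Q : Set X) := by
      refine mem_normalizer_fintype fun z hz => ?_
      obtain ⟨q, hq, rfl⟩ := hz
      exact ⟨l * q * l⁻¹, mem_inf.2 ⟨(mem_normalizer_iff.1 hlN q).1 (mem_inf.1 hq).1,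
        (inferInstance : M0.Normal).conj_mem _ (mem_inf.1 hq).2 l⟩, by simp⟩
    have hcl : c0 * l * c0⁻¹ * l⁻¹ ∈ Q0 := by
      refine mem_inf.2 ⟨?_, mul_mem ((inferInstance : M0.Normal).conj_mem _ hl c0) (inv_mem hl)⟩
      rw [show c0 * l * c0⁻¹ * l⁻¹ = c0 * (l * c0⁻¹ * l⁻¹) by group]
      exact mul_mem hcH ((mem_normalizer_iff.1 hlN _).1 (inv_mem hcH))
    have h := commute_of_mem_derived (M := M) (B := B) (Q := Q) (c := c) (l := (l : X)) hBM
      (hQT.trans (map_subtype_le _)) (hBS.trans (centralizer_le hQT)) (hTp.to_le hQT)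
      (mem_subgroupOf.1 hl) hlQ hidx hc ⟨_, hcl, by simp [c0]⟩
    apply Subtype.ext
    show (l : X) * c = c * (l : X)
    calc (l : X) * c = (c * (l : X) * c⁻¹ * (l : X)⁻¹) * (l : X) * c := by rw [h, one_mul]
      _ = _ := by group
  -- `c0` is isolated
  have hiso : ∀ g : G0, g * c0 * g⁻¹ ∈ W → g * c0 * g⁻¹ = c0 := by
    intro g hg
    have hch : AlperinGoldschmidt.SChain W ({c0} : Set G0) g⁻¹ := by
      refine AlperinGoldschmidt.exists_schain (Set.singleton_subset_iff.2 hcW) ?_
      rintro _ ⟨a, rfl, rfl⟩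
      simpa using hg
    have key : ∀ (A : Set G0) (y : G0), AlperinGoldschmidt.SChain W A y → A = {c0} →
        y⁻¹ * c0 * y = c0 := by
      intro A y h
      induction h with
      | nil A d z hA hd hz =>
        rintro rfl
        have h1 := step (W : Subgroup G0) le_rfl hcW inf_le_left
          (by rw [inf_eq_left.2 le_normalizer]; exact fun hd2 =>
            W.not_dvd_index (hd2.trans ⟨_, (relIndex_mul_index le_normalizer).symm⟩)) z hz
        have h2 : Commute d c0 := (mem_centralizer_iff.1 hd c0 rfl).symm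
        rw [mul_inv_rev, mul_assoc, mul_assoc, ← mul_assoc c0 d, ← h2.eq, mul_assoc d,
          ← h1.eq, inv_mul_cancel_left, inv_mul_cancel_left]
      | cons A H X' x y hH hA _ ih =>
        rintro rfl
        have hcH : c0 ∈ H := hA rfl
        have hx : x ∈ normalizer (H : Set G0) :=
          hH.least.2.1 (Subgroup.map_subtype_le _ hH.mem)
        have h1 := step H hH.le hcH hH.centric hH.sylow x hx
        have h2 : x⁻¹ * c0 * x = c0 := by rw [mul_assoc, ← h1.eq, inv_mul_cancel_left]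
        have h3 := ih (by rw [Set.image_singleton, h2])
        rw [mul_inv_rev, mul_assoc, mul_assoc, ← mul_assoc c0 x, ← h1.eq, mul_assoc x,
          inv_mul_cancel_left, ← mul_assoc, h3]
    have := key _ _ hch rfl
    rwa [inv_inv] at this
  -- `Z*`
  rw [mem_centralizer_iff]
  intro m hm
  set m0 : G0 := ⟨m, mem_sup_left hm⟩
  have hz := Fusion.conj_eq_mod_oddCore (orderOf c0) W c0 hcW le_rfl hiso m0
  rw [QuotientGroup.mk'_apply, QuotientGroup.mk'_apply, QuotientGroup.eq] at hz
  have hO : M0 ⊓ Cfsg.oddCore G0 = ⊥ := by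
    haveI : Nontrivial M0 :=
      (subgroupOfEquivOfLe (le_sup_left : M ≤ G0)).toEquiv.nontrivial
    haveI : IsSimpleGroup M0 := IsSimpleGroup.isSimpleGroup_of_surjective
      (subgroupOfEquivOfLe (le_sup_left : M ≤ G0)).symm.toMonoidHom (MulEquiv.surjective _)
    have hn : ((Cfsg.oddCore G0).subgroupOf M0).Normal := inferInstance
    rcases hn.eq_bot_or_eq_top with h | h
    · rwa [subgroupOf_eq_bot, disjoint_iff, inf_comm] at h
    · refine absurd ?_ hne
      have h1 : M0 ≤ Cfsg.oddCore G0 := subgroupOf_eq_top.1 h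
      have hodd : Odd (Nat.card M0) :=
        (Nat.coprime_two_right.1 (PLocal.coprime_card_pPrimeCore 2 G0)).of_dvd_nat (card_dvd_of_le h1)
      rw [Nat.card_congr (subgroupOfEquivOfLe (le_sup_left : M ≤ G0)).toEquiv] at hodd
      haveI := Cfsg.Agent.S0205.result hodd
      exact ⟨⟨fun a b => IsSimpleGroup.comm_iff_isSolvable.2 ‹_› a b⟩⟩
  have h4 : (m0 * c0 * m0⁻¹)⁻¹ * c0 ∈ M0 ⊓ Cfsg.oddCore G0 := by
    refine mem_inf.2 ⟨?_, hz⟩
    rw [show (m0 * c0 * m0⁻¹)⁻¹ * c0 = m0 * (c0⁻¹ * m0⁻¹ * c0⁻¹⁻¹) by group]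
    exact mul_mem (mem_subgroupOf.2 hm)
      ((inferInstance : M0.Normal).conj_mem _ (inv_mem (mem_subgroupOf.2 hm)) _)
  rw [hO, mem_bot, inv_mul_eq_one] at h4
  exact congrArg Subtype.val (mul_inv_eq_iff_eq_mul.1 h4)

/-- A perfect group centralising a Sylow 2-subgroup of a simple group centralises it. -/
theorem perfect_centralizes {X : Type u} [Group X] [Finite X] (M : Subgroup X)
    [IsSimpleGroup M] (hne : ¬ IsMulCommutative M) (B : Subgroup X) (hperf : ⁅B, B⁆ = B)
    (hBM : B ≤ normalizer (M : Set X)) (S : Sylow 2 M)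
    (hBS : B ≤ centralizer (((S : Subgroup M).map M.subtype : Subgroup X) : Set X)) :
    B ≤ centralizer (M : Set X) := by
  set K := (centralizer (M : Set X)).subgroupOf B
  haveI : K.Normal := by
    refine (normal_subgroupOf_iff_le_normalizer_inf).2 ?_
    exact (le_inf (hBM.trans (normalizer_le_normalizer_centr M)) le_normalizer).trans
      inf_normalizer_le_normalizer_inf
  have hodd : Odd (Nat.card (B ⧸ K)) := by
    rw [← index_eq_card, Nat.odd_iff, ← Nat.two_dvd_ne_zero]
    obtain ⟨P⟩ : Nonempty (Sylow 2 B) := inferInstance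
    have hPK : (P : Subgroup B) ≤ K := by
      intro y hy
      obtain ⟨k, hk⟩ := IsPGroup.iff_orderOf.1 P.2 ⟨y, hy⟩
      rw [Subgroup.orderOf_mk, ← Subgroup.orderOf_coe] at hk
      exact mem_subgroupOf.2 (two_element_centralizes M hne B hBM S hBS (by rw [hperf]; exact y.2) hk)
    exact fun h => P.not_dvd_index (h.trans (index_dvd_of_le hPK))
  haveI := Cfsg.Agent.S0205.result hodd
  have hP : Group.IsPerfect B := ⟨map_injective B.subtype_injective (by
    rw [map_subtype_commutator, ← MonoidHom.range_eq_map, B.range_subtype, hperf])⟩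
  by_contra hnot
  have hne' : K ≠ ⊤ := fun e => hnot (subgroupOf_eq_top.1 e)
  haveI : Nontrivial (B ⧸ K) := QuotientGroup.nontrivial_iff.2 hne'
  haveI : Group.IsPerfect (B ⧸ K) := Group.IsPerfect.ofSurjective (QuotientGroup.mk'_surjective K)
  exact Group.IsPerfect.not_isSolvable (B ⧸ K) inferInstance

end CfsgLib.CoprimeLayer
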