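import Cfsg.Agent.CoprimeLayer.Trichotomy
import Cfsg.Agent.S3041

/-!
# `ShultProp` holds: the prime-field special case of S3041
-/

namespace CfsgLib.CoprimeLayer

universe u

theorem shultProp : ShultProp.{u} := by
  intro X _ _ G R _ hX r hr hR hcop p _ V _ _ _ _ ρ hinj hirr hfix
  haveI : CharP (ZMod p) p := ZMod.charP p
  exact (Cfsg.Agent.S3041.result G R hX r hr hR hcop (k := ZMod p) (p := p) ρ hinj hirr hfix).imp id
    fun h => h.2.2

end CfsgLib.CoprimeLayer
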