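import Mathlib

/-!
# Commutators of derived elements centralising a normalised `2`-subgroup

Let `B` normalise `M` and centralise a 2-subgroup `Q ≤ M` which has odd index in `C = C_M(Q)`.
For `l ∈ N_M(Q)` the map `b ↦ [b, l]^e` (`e` odd) is a homomorphism from `B` into `Q`, so it
kills the derived group of `B`.
-/

set_option autoImplicit false

namespace CfsgLib.CoprimeLayer

open Subgroup

variable {X : Type*} [Group X]

theorem commute_of_mem_derived [Finite X] {M B Q : Subgroup X} {c l : X}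
    (hBM : B ≤ normalizer (M : Set X)) (hQM : Q ≤ M) (hBQ : B ≤ centralizer (Q : Set X))
    (hQ2 : IsPGroup 2 Q) (hl : l ∈ M) (hlQ : l ∈ normalizer (Q : Set X))
    (hidx : ¬ 2 ∣ Q.relIndex (M ⊓ centralizer (Q : Set X)))
    (hc : c ∈ ⁅B, B⁆) (hcl : c * l * c⁻¹ * l⁻¹ ∈ Q) : c * l * c⁻¹ * l⁻¹ = 1 := by
  set C := M ⊓ centralizer (Q : Set X) with hC
  set Z := Q.subgroupOf C with hZ
  have hZc : Z ≤ center C := fun z hz => mem_center_iff.2 fun y => Subtype.ext
    (mem_centralizer_iff.1 (mem_inf.1 y.2).2 z hz).symm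
  haveI : Z.Normal := ⟨fun z hz y => by
    rw [mem_center_iff.1 (hZc hz) y, mul_inv_cancel_right]; exact hz⟩
  -- commutators with `l` land in `C`
  have hmem : ∀ b ∈ B, b * l * b⁻¹ * l⁻¹ ∈ C := by
    intro b hb
    refine mem_inf.2 ⟨mul_mem ((mem_normalizer_iff.1 (hBM hb) l).1 hl) (inv_mem hl), ?_⟩
    rw [mem_centralizer_iff]
    intro q hq
    have h1 : l⁻¹ * q * l ∈ Q := by
      have := (mem_normalizer_iff.1 (inv_mem hlQ) q).1 hq
      rwa [inv_inv] at this
    have e1 := mem_centralizer_iff.1 (hBQ hb) _ h1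
    have e2 := mem_centralizer_iff.1 (hBQ hb) q hq
    symm
    calc b * l * b⁻¹ * l⁻¹ * q = b * l * b⁻¹ * ((l⁻¹ * q * l) * l⁻¹) := by group
      _ = b * l * b⁻¹ * ((l⁻¹ * q * l) * b) * b⁻¹ * l⁻¹ := by group
      _ = b * l * b⁻¹ * (b * (l⁻¹ * q * l)) * b⁻¹ * l⁻¹ := by rw [e1]
      _ = (b * q) * l * b⁻¹ * l⁻¹ := by group
      _ = q * b * l * b⁻¹ * l⁻¹ := by rw [← e2]
      _ = q * (b * l * b⁻¹ * l⁻¹) := by group
  set i := (center C).index with hi
  set j := Z.index with hj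
  have hjodd : ¬ 2 ∣ j := hidx
  have hiodd : ¬ 2 ∣ i := fun h => hjodd (h.trans (index_dvd_of_le hZc))
  -- the value of the odd power
  letI : CommGroup (center C) :=
    { (center C).toGroup with
      mul_comm := fun a b => Subtype.ext (mem_center_iff.1 b.2 a) }
  let τ : C →* center C := (powMonoidHom j : center C →* center C).comp (MonoidHom.transferCenterPow C)
  have hτval : ∀ y : C, ((τ y : C) : X) = ((y : X) ^ i) ^ j := fun y => rfl
  have hτQ : ∀ y : C, ((τ y : C) : X) ∈ Q := fun y => by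
    have h := pow_index_mem (H := Z) ((MonoidHom.transferCenterPow C y : C))
    exact h
  let f : B →* center C :=
    { toFun := fun b => τ ⟨_, hmem b b.2⟩
      map_one' := by
        rw [show (⟨_, hmem ((1 : B) : X) (1 : B).2⟩ : C) = 1 from Subtype.ext (by simp), map_one]
      map_mul' := fun b₁ b₂ => by
        have hb : (b₁ : X) * (b₂ * l * (b₂ : X)⁻¹ * l⁻¹) * (b₁ : X)⁻¹ ∈ C := by
          obtain ⟨h1, h2⟩ := mem_inf.1 (hmem b₂ b₂.2)
          refine mem_inf.2 ⟨(mem_normalizer_iff.1 (hBM b₁.2) _).1 h1,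
            mul_mem (mul_mem (hBQ b₁.2) h2) (inv_mem (hBQ b₁.2))⟩
        have e : (⟨_, hmem ((b₁ * b₂ : B) : X) (b₁ * b₂).2⟩ : C) =
            ⟨_, hb⟩ * ⟨_, hmem b₁ b₁.2⟩ := by
          apply Subtype.ext
          simp only [Subgroup.coe_mul, _root_.mul_inv_rev]
          group
        rw [e, map_mul, mul_comm]
        refine congrArg _ (Subtype.ext (Subtype.ext ?_))
        have hq := hτQ ⟨_, hmem b₂ b₂.2⟩
        have hcomm := mem_centralizer_iff.1 (hBQ b₁.2) _ hq
        rw [hτval] at hcomm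
        rw [hτval, hτval]
        show (((b₁ : X) * _ * (b₁ : X)⁻¹) ^ i) ^ j = _
        rw [conj_pow, conj_pow, ← hcomm, mul_inv_cancel_right] }
  have hker : commutator B ≤ f.ker := Abelianization.commutator_subset_ker f
  have hc' : c ∈ (commutator B).map B.subtype := by rwa [map_subtype_commutator]
  obtain ⟨c', hc', rfl⟩ := hc'
  have h1 : ((τ ⟨_, hmem c' c'.2⟩ : C) : X) = 1 := by
    have := hker hc'
    rw [MonoidHom.mem_ker] at this
    exact congrArg (fun y : center C => ((y : C) : X)) this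
  rw [hτval, ← pow_mul] at h1
  obtain ⟨k, hk⟩ := hQ2 ⟨_, hcl⟩
  have h2 : ((c' : X) * l * (c' : X)⁻¹ * l⁻¹) ^ 2 ^ k = 1 := congrArg Subtype.val hk
  have hcop : (2 ^ k).gcd (i * j) = 1 := Nat.Coprime.pow_left k
    ((Nat.prime_two.coprime_iff_not_dvd).2 fun h => ((Nat.Prime.dvd_mul Nat.prime_two).1 h).elim hiodd hjodd)
  have h3 := (pow_gcd_eq_one (a := (c' : X) * l * (c' : X)⁻¹ * l⁻¹)).2 ⟨h2, h1⟩
  rw [hcop, pow_one] at h3
  exact h3

end CfsgLib.CoprimeLayer
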