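import Cfsg.Agent.CoprimeLayer.Layer

/-!
# The trichotomy for local components

A quasisimple group commuting with its other conjugates under `R C_G(R)` is a component of
`C_G(R)`, a component of `G`, or inside an `R`-invariant component of `G`.
-/

set_option autoImplicit false

namespace CfsgLib.CoprimeLayer

open Subgroup
open scoped Pointwise commutatorElement

universe u

variable {X : Type u} [Group X]

/-- A quasisimple group lies in or centralises each subgroup of it that it normalises. -/
theorem qs_le_or_le_centralizer {K N : Subgroup X} (hK : Cfsg.IsQuasisimple K) (hN : N ≤ K)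
    (hKN : K ≤ normalizer (N : Set X)) : K ≤ N ∨ K ≤ centralizer (N : Set X) := by
  have h := isComp_sSup (S := {K}) (by rintro _ rfl; exact hK)
    (by rintro _ rfl _ rfl hne; exact absurd rfl hne) (Set.mem_singleton K)
  rw [sSup_singleton] at h
  exact h.le_or_le_centralizer hN hKN

/-- A perfect group inside an extension by a central group lies in the base. -/
theorem perfect_le_of_central {P B Z : Subgroup X} (hP : ⁅P, P⁆ = P) (h : P ≤ B ⊔ Z)
    (hZ : B ⊔ Z ≤ centralizer (Z : Set X)) : P ≤ B := by
  rw [← hP, commutator_le]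
  intro x hx y hy
  have hBZ : Z ≤ normalizer (B : Set X) :=
    (le_centralizer_iff.1 (le_sup_left.trans hZ)).trans (centralizer_le_normalizer _)
  obtain ⟨a, ha, z, hz, rfl⟩ := Coprime.exists_mul_of_mem_sup hBZ (h hx)
  obtain ⟨b, hb, w, hw, rfl⟩ := Coprime.exists_mul_of_mem_sup hBZ (h hy)
  have c : ∀ q ∈ B ⊔ Z, ∀ v ∈ Z, Commute v q := fun q hq v hv =>
    mem_centralizer_iff.1 (hZ hq) v hv
  have e : ⁅a * z, b * w⁆ = ⁅a, b⁆ := by
    rw [commutatorElement_def, commutatorElement_def, mul_inv_rev, mul_inv_rev]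
    calc a * z * (b * w) * (z⁻¹ * a⁻¹) * (w⁻¹ * b⁻¹)
        = a * (z * (b * w)) * z⁻¹ * a⁻¹ * w⁻¹ * b⁻¹ := by group
      _ = a * (b * w * z) * z⁻¹ * a⁻¹ * w⁻¹ * b⁻¹ := by
          rw [(c _ (mul_mem (mem_sup_left hb) (mem_sup_right hw)) z hz).eq]
      _ = a * b * (w * a⁻¹) * w⁻¹ * b⁻¹ := by group
      _ = a * b * (a⁻¹ * w) * w⁻¹ * b⁻¹ := by rw [(c _ (inv_mem (mem_sup_left ha)) w hw).eq]
      _ = _ := by group
  rw [e, commutatorElement_def]
  exact mul_mem (mul_mem (mul_mem ha hb) (inv_mem ha)) (inv_mem hb)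

/-- Elements of `P` sending `K ≰ P` to itself or to a commuting subgroup centralise `K`. -/
theorem centralizes_of_commuting_conj {P D K : Subgroup X} (hK : Cfsg.IsQuasisimple K)
    (hDP : D ≤ P) (hKP : K ≤ normalizer (P : Set X))
    (hcomm : ∀ d ∈ D, MulAut.conj d • K ≠ K →
      K ≤ centralizer ((MulAut.conj d • K : Subgroup X) : Set X))
    (hnot : ¬ K ≤ P) : K ≤ centralizer (D : Set X) := by
  have hnorm : ∀ d ∈ D, d ∈ normalizer (K : Set X) := by
    intro d hd
    rw [Coprime.mem_normalizer_iff_conj_smul_eq]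
    by_contra hne
    refine hnot ?_
    rw [← qs_commutator_self hK, commutator_le]
    intro k' hk' k hk
    have h1 : d * k * d⁻¹ * k' = k' * (d * k * d⁻¹) :=
      mem_centralizer_iff.1 (hcomm d hd hne hk') _ (Coprime.conj_mem_conj_smul hk)
    have hl : k⁻¹ * d * k * d⁻¹ ∈ P := by
      refine mul_mem ?_ (inv_mem (hDP hd))
      have := (mem_normalizer_iff.1 (inv_mem (hKP hk)) d).1 (hDP hd)
      rwa [inv_inv] at this
    set l := k⁻¹ * d * k * d⁻¹ with hl'
    have h2 : d * k * d⁻¹ = k * l := by rw [hl']; group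
    rw [h2] at h1
    have e : ⁅k', k⁆ = k * (l * (k' * l⁻¹ * k'⁻¹)) * k⁻¹ := by
      rw [commutatorElement_def]
      calc k' * k * k'⁻¹ * k⁻¹ = (k' * (k * l)) * l⁻¹ * k'⁻¹ * k⁻¹ := by group
        _ = (k * l * k') * l⁻¹ * k'⁻¹ * k⁻¹ := by rw [h1]
        _ = _ := by group
    rw [e]
    exact (mem_normalizer_iff.1 (hKP hk) _).1
      (mul_mem hl ((mem_normalizer_iff.1 (hKP hk') _).1 (inv_mem hl)))
  refine le_centralizer_of_series (qs_commutator_self hK) (N := K ⊓ P) ?_ ?_
  · rw [commutator_le]
    intro d hd k hk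
    rw [commutatorElement_def]
    refine mem_inf.2 ⟨mul_mem ((mem_normalizer_iff.1 (hnorm d hd) k).1 hk) (inv_mem hk), ?_⟩
    rw [mul_assoc, mul_assoc, ← mul_assoc k d⁻¹]
    exact mul_mem (hDP hd) ((mem_normalizer_iff.1 (hKP hk) _).1 (inv_mem (hDP hd)))
  · exact (qs_le_or_le_centralizer hK inf_le_left (le_normalizer_inf le_normalizer hKP)).resolve_left
      fun h => hnot (h.trans inf_le_right)

/-- The facts about a component moved by `R` and met nontrivially by `K`. -/
theorem moved_component [Finite X] {G R : Subgroup X} {r : ℕ} [Fact r.Prime]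
    (hR : Nat.card R = r) (hnorm : R ≤ normalizer (G : Set X)) {K : Subgroup X}
    (hK : Cfsg.IsQuasisimple K) (hKn : ∀ L, IsComp G L → K ≤ normalizer (L : Set X))
    (hcomm : ∀ d ∈ G ⊓ centralizer (R : Set X), MulAut.conj d • K ≠ K →
      K ≤ centralizer ((MulAut.conj d • K : Subgroup X) : Set X))
    {L : Subgroup X} (hL : IsComp G L) (hmove : ¬ R ≤ normalizer (L : Set X))
    (hKL : ¬ K ≤ centralizer (L : Set X)) :
    K ≤ sSup ((fun t : R => MulAut.conj (t : X) • L) '' Set.univ) ∧
      L ≤ K ⊔ centralizer (L : Set X) ∧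
      (∀ d ∈ sSup ((fun t : R => MulAut.conj (t : X) • L) '' Set.univ) ⊓ centralizer (R : Set X),
        d ∈ normalizer (K : Set X)) := by
  set O := (fun t : R => MulAut.conj (t : X) • L) '' Set.univ
  set P := sSup O
  have hO : ∀ A ∈ O, IsComp G A := by
    rintro _ ⟨t, -, rfl⟩; exact hL.conj_smul (hnorm t.2)
  have hPG : P ≤ G := sSup_le fun A hA => (hO A hA).1
  have hRP : R ≤ normalizer (P : Set X) := by
    refine le_normalizer_sSup ?_
    rintro g hg _ ⟨t, -, rfl⟩
    exact ⟨⟨g, hg⟩ * t, trivial, by rw [Coprime.conj_smul_conj_smul]; rfl⟩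
  have hKP : K ≤ normalizer (P : Set X) := le_normalizer_sSup fun g hg A hA =>
    (Coprime.conj_smul_eq_self (hKn A (hO A hA) hg)).symm ▸ hA
  have hLO : L ∈ O := ⟨1, trivial, by simp⟩
  have hLP : IsComp P L := isComp_sSup (fun A hA => (hO A hA).qs)
    (fun A hA B hB e => commutator_eq_bot_iff_le_centralizer.1 ((hO A hA).commute (hO B hB) e)) hLO
  have hPL : P ≤ normalizer (L : Set X) := sSup_le fun A hA => (hO A hA).le_normalizer_comp hL
  set C := centralizer (L : Set X)
  have hnC : ∀ {g : X}, g ∈ normalizer (L : Set X) → g ∈ normalizer (C : Set X) := fun hg =>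
    normalizer_le_normalizer_cent L hg
  have hKC : K ≤ normalizer (C : Set X) := fun k hk => hnC (hKn L hL hk)
  set D0 := P ⊓ centralizer (R : Set X)
  have hcomm' : ∀ d ∈ D0, MulAut.conj d • K ≠ K →
      K ≤ centralizer ((MulAut.conj d • K : Subgroup X) : Set X) := fun d hd =>
    hcomm d (mem_inf.2 ⟨hPG (mem_inf.1 hd).1, (mem_inf.1 hd).2⟩)
  have hKleP : K ≤ P := by
    by_contra hn
    have hD := centralizes_of_commuting_conj hK inf_le_left hKP hcomm' hn
    refine hKL (commutator_eq_bot_iff_le_centralizer.1 ?_)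
    rw [commutator_comm]
    refine Components.commutator_eq_bot_of_commutator_le_centralizer (qs_commutator_self hL.qs) ?_
    rw [commutator_le]
    intro x hx k hk
    obtain ⟨d, hd, hdc, -⟩ := exists_diagonal hR hRP hLP hmove hx
    have hdn : d ∈ normalizer (C : Set X) := by
      rw [show d = x * (x⁻¹ * d) by group]
      exact mul_mem (hnC (le_normalizer hx)) (le_normalizer hdc)
    have h3 : d * k = k * d := mem_centralizer_iff.1 (hD hk) d hd
    have e : ⁅x, k⁆ = d * ((x⁻¹ * d)⁻¹ * (k * (x⁻¹ * d) * k⁻¹)) * d⁻¹ := by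
      rw [commutatorElement_def]
      calc x * k * x⁻¹ * k⁻¹ = x * k * (x⁻¹ * d) * (d⁻¹ * k⁻¹) := by group
        _ = x * k * (x⁻¹ * d) * (k⁻¹ * d⁻¹) := by rw [← mul_inv_rev, ← h3, mul_inv_rev]
        _ = _ := by group
    rw [e]
    exact (mem_normalizer_iff.1 hdn _).1
      (mul_mem (inv_mem hdc) ((mem_normalizer_iff.1 (hKC hk) _).1 hdc))
  refine ⟨hKleP, ?_⟩
  have hPLC : P ≤ L ⊔ C := sSup_le fun A hA => by
    by_cases e : A = L
    · exact e.le.trans le_sup_left
    · exact (commutator_eq_bot_iff_le_centralizer.1 ((hO A hA).commute hL e)).trans le_sup_right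
  set V := K ⊔ C
  set U := L ⊓ V
  have hLC : C ≤ normalizer (L : Set X) := centralizer_le_normalizer _
  have hUne : ¬ U ≤ C := by
    intro h
    refine hKL fun k hk => ?_
    obtain ⟨l, hl, c, hc, rfl⟩ := Coprime.exists_mul_of_mem_sup hLC (hPLC (hKleP hk))
    refine mul_mem (h (mem_inf.2 ⟨hl, ?_⟩)) hc
    rw [show l = l * c * c⁻¹ by group]
    exact mul_mem (mem_sup_left hk) (mem_sup_right (inv_mem hc))
  have key : ∀ x ∈ L, ∀ d ∈ D0, x⁻¹ * d ∈ C →
      MulAut.conj x • V = MulAut.conj d • K ⊔ C := by
    intro x hx d hd hdc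
    have h1 : MulAut.conj d • V = MulAut.conj x • V := by
      conv_lhs => rw [show d = x * (x⁻¹ * d) by group, ← Coprime.conj_smul_conj_smul]
      rw [Coprime.conj_smul_eq_self ((le_sup_right.trans le_normalizer : C ≤ normalizer (V : Set X)) hdc)]
    rw [← h1, smul_sup]
    congr 1
    exact Coprime.conj_smul_eq_self (hnC (hPL (mem_inf.1 hd).1))
  have hVV : ∀ d ∈ D0, MulAut.conj d • K ≠ K → ⁅V, MulAut.conj d • K ⊔ C⁆ ≤ C := by
    intro d hd hne
    have hdC := hnC (hPL (mem_inf.1 hd).1)
    have hK' : MulAut.conj d • K ≤ normalizer (C : Set X) := by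
      rw [← Coprime.conj_smul_eq_self (le_normalizer hdC : d ∈ normalizer (normalizer (C : Set X) : Set X))]
      exact pointwise_smul_le_pointwise_smul_iff.2 hKC
    refine (commutator_sup_le hKC hK').trans ?_
    rw [commutator_eq_bot_iff_le_centralizer.2 (hcomm' d hd hne), bot_sup_eq]
  have hUxU : ∀ x ∈ L, MulAut.conj x • U ≤ normalizer (U : Set X) := by
    intro x hx
    obtain ⟨d, hd, hdc, -⟩ := exists_diagonal hR hRP hLP hmove hx
    have hsm : MulAut.conj x • U = L ⊓ (MulAut.conj d • K ⊔ C) := by
      rw [← key x hx d hd hdc]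
      show MulAut.conj x • (L ⊓ V) = _
      rw [smul_inf, Coprime.conj_smul_eq_self (le_normalizer hx)]
    by_cases e : MulAut.conj d • K = K
    · rw [hsm, e]; exact le_normalizer
    · intro y hy
      rw [hsm] at hy
      refine mem_normalizer_fintype fun z hz => ?_
      obtain ⟨hy1, hy2⟩ := mem_inf.1 hy
      obtain ⟨hz1, hz2⟩ := mem_inf.1 (SetLike.mem_coe.1 hz)
      have hc : ⁅z, y⁆ ∈ C := hVV d hd e (commutator_mem_commutator hz2 hy2)
      refine mem_inf.2 ⟨mul_mem (mul_mem hy1 hz1) (inv_mem hy1), ?_⟩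
      rw [show y * z * y⁻¹ = ⁅z, y⁆⁻¹ * z by rw [commutatorElement_def]; group]
      exact mul_mem (mem_sup_right (inv_mem hc)) hz2
  set N := sSup ((fun x : L => MulAut.conj (x : X) • U) '' Set.univ)
  have hNL : N ≤ L := sSup_le (by
    rintro _ ⟨x, -, rfl⟩
    exact (pointwise_smul_le_pointwise_smul_iff.2 inf_le_left).trans
      (Coprime.conj_smul_eq_self (le_normalizer x.2 : (x : X) ∈ normalizer (L : Set X))).le)
  have hLN : L ≤ normalizer (N : Set X) := by
    refine le_normalizer_sSup ?_
    rintro g hg _ ⟨x, -, rfl⟩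
    exact ⟨⟨g, hg⟩ * x, trivial, by rw [Coprime.conj_smul_conj_smul]; rfl⟩
  have hUN : U ≤ N := le_sSup ⟨1, trivial, by simp⟩
  have hLleN : L ≤ N := (qs_le_or_le_centralizer hL.qs hNL hLN).resolve_right fun h =>
    hUne (hUN.trans (le_centralizer_iff.1 h))
  have hLU : L ≤ normalizer (U : Set X) := hLleN.trans (sSup_le (by
    rintro _ ⟨x, -, rfl⟩; exact hUxU x x.2))
  have hLV : L ≤ V := ((qs_le_or_le_centralizer hL.qs inf_le_left hLU).resolve_right fun h =>
    hUne (le_centralizer_iff.1 h)).trans inf_le_right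
  refine ⟨hLV, fun d hd => ?_⟩
  rw [Coprime.mem_normalizer_iff_conj_smul_eq]
  by_contra hne
  have hdL : L ≤ MulAut.conj d • K ⊔ C := by
    calc L = MulAut.conj d • L := (Coprime.conj_smul_eq_self (hPL (mem_inf.1 hd).1)).symm
      _ ≤ MulAut.conj d • V := pointwise_smul_le_pointwise_smul_iff.2 hLV
      _ = _ := by
        rw [smul_sup]; congr 1
        exact Coprime.conj_smul_eq_self (hnC (hPL (mem_inf.1 hd).1))
  exact qs_not_le_centralizer hL.qs
    ((qs_commutator_self hL.qs).ge.trans ((commutator_mono hLV hdL).trans (hVV d hd hne)))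

/-- `S1929`. -/
theorem trichotomy [Finite X] (hS : ShultProp.{u}) {G R : Subgroup X} {r : ℕ} [Fact r.Prime]
    (hR : Nat.card R = r) (hcop : (Nat.card G).Coprime r) (hnorm : R ≤ normalizer (G : Set X))
    {K : Subgroup X} (hKG : K ≤ G) (hKq : Cfsg.IsQuasisimple K)
    (hcomm : ∀ g ∈ R ⊔ (G ⊓ centralizer (R : Set X)),
      MulAut.conj g • K ≠ K → K ≤ centralizer ((MulAut.conj g • K : Subgroup X) : Set X)) :
    (K ≤ G ⊓ centralizer (R : Set X) ∧
        Cfsg.IsComponent (K.subgroupOf (G ⊓ centralizer (R : Set X)))) ∨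
      Cfsg.IsComponent (K.subgroupOf G) ∨
      ∃ L : Subgroup X, L ≤ G ∧ Cfsg.IsComponent (L.subgroupOf G) ∧
        (∀ a ∈ R, L.map (MulAut.conj a).toMonoidHom = L) ∧ K ≤ L := by
  set C := G ⊓ centralizer (R : Set X)
  set J := R ⊔ C
  have hJG : J ≤ normalizer (G : Set X) := sup_le hnorm (inf_le_left.trans le_normalizer)
  have hJR : J ≤ normalizer (R : Set X) :=
    sup_le le_normalizer (inf_le_right.trans (centralizer_le_normalizer _))
  set S := (fun j : J => MulAut.conj (j : X) • K) '' Set.univ
  have hKS : K ∈ S := ⟨1, trivial, by simp⟩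
  have hinv : ∀ g ∈ J, ∀ A ∈ S, MulAut.conj g • A ∈ S := by
    rintro g hg _ ⟨j, -, rfl⟩
    exact ⟨⟨g, hg⟩ * j, trivial, by rw [Coprime.conj_smul_conj_smul]; rfl⟩
  have hqs : ∀ A ∈ S, Cfsg.IsQuasisimple A := by
    rintro _ ⟨j, -, rfl⟩
    exact Components.isQuasisimple_congr (equivSMul (MulAut.conj (j : X)) K) hKq
  have hcommS : ∀ A ∈ S, ∀ B ∈ S, A ≠ B → A ≤ centralizer (B : Set X) := by
    rintro _ ⟨a, -, rfl⟩ _ ⟨b, -, rfl⟩ hne
    have hne' : MulAut.conj ((a : X)⁻¹ * b) • K ≠ K := fun e => hne (by
      show MulAut.conj (a : X) • K = MulAut.conj (b : X) • K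
      conv_lhs => rw [← e]
      rw [Coprime.conj_smul_conj_smul, mul_inv_cancel_left])
    have := (conj_smul_commute_iff (g := (a : X))).2 (hcomm _ (mul_mem (inv_mem a.2) b.2) hne')
    rwa [Coprime.conj_smul_conj_smul, mul_inv_cancel_left] at this
  by_cases hKR : K ≤ centralizer (R : Set X)
  · -- a component of the centraliser
    refine Or.inl ⟨le_inf hKG hKR, ?_⟩
    have hSC : ∀ A ∈ S, A ≤ C := by
      rintro _ ⟨j, -, rfl⟩
      refine le_inf ?_ ?_
      · rw [← Coprime.conj_smul_eq_self (hJG j.2)]
        exact pointwise_smul_le_pointwise_smul_iff.2 hKG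
      · rw [← Coprime.conj_smul_eq_self (hJR j.2), conj_smul_commute_iff]
        exact hKR
    set W := sSup S
    have hWC : W ≤ C := sSup_le hSC
    have hC : C ≤ normalizer (W : Set X) := le_sup_right.trans (le_normalizer_sSup hinv)
    have hWK : W ≤ normalizer (K : Set X) := sSup_le fun A hA => by
      by_cases e : A = K
      · subst e; exact le_normalizer
      · exact (hcommS A hA K hKS e).trans (centralizer_le_normalizer _)
    refine ⟨?_, Components.isQuasisimple_congr (subgroupOfEquivOfLe (le_inf hKG hKR)).symm hKq⟩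
    refine Subgroup.IsSubnormal.step _ (W.subgroupOf C)
      (fun x hx => mem_subgroupOf.2 (le_sSup hKS (mem_subgroupOf.1 hx)))
      (Subgroup.Normal.isSubnormal (normal_subgroupOf_of_le_normalizer hC))
      (normal_subgroupOf_of_le_normalizer (subgroupOf_normalizer_le ((le_sSup hKS).trans hWC) hWK))
  · refine Or.inr ?_
    have hcenS : ∀ A ∈ S, ¬ A ≤ centralizer (R : Set X) := by
      rintro _ ⟨j, -, rfl⟩ hle
      rw [← Coprime.conj_smul_eq_self (hJR j.2), conj_smul_commute_iff] at hle
      exact hKR hle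
    have hSG : ∀ A ∈ S, A ≤ G := by
      rintro _ ⟨j, -, rfl⟩
      rw [← Coprime.conj_smul_eq_self (hJG j.2)]
      exact pointwise_smul_le_pointwise_smul_iff.2 hKG
    have hlay := family_le_layer hS hR hcop hnorm hSG hqs hcommS hinv hcenS
    have hSn : ∀ A ∈ S, ∀ L, IsComp G L → A ≤ normalizer (L : Set X) := fun A hA L hL =>
      ((hlay A hA).trans (layer_le_sSup G)).trans (sSup_le fun M hM => hM.le_normalizer_comp hL)
    obtain ⟨L, hL, hKL⟩ : ∃ L, IsComp G L ∧ ¬ K ≤ centralizer (L : Set X) := by
      by_contra! hall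
      refine qs_not_le_centralizer hKq ?_
      refine le_trans ?_ (le_of_eq rfl)
      rw [le_centralizer_iff]
      exact ((hlay K hKS).trans (layer_le_sSup G)).trans
        (sSup_le fun L hL => le_centralizer_iff.1 (hall L hL))
    by_cases hfix : R ≤ normalizer (L : Set X)
    · -- `K` lies in an invariant component
      refine Or.inr ⟨L, hL.1, hL.2, fun a ha => Coprime.conj_smul_eq_self (hfix ha), ?_⟩
      by_contra hKnL
      set S' := (fun t : R => MulAut.conj (t : X) • K) '' Set.univ
      have hS' : S' ⊆ S := by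
        rintro _ ⟨t, -, rfl⟩; exact ⟨⟨t, mem_sup_left t.2⟩, trivial, rfl⟩
      have hinv' : ∀ g ∈ R, ∀ A ∈ S', MulAut.conj g • A ∈ S' := by
        rintro g hg _ ⟨t, -, rfl⟩
        exact ⟨⟨g, hg⟩ * t, trivial, by rw [Coprime.conj_smul_conj_smul]; rfl⟩
      set W := sSup S'
      have hWD : W ≤ centralizer ((L ⊓ centralizer (R : Set X) : Subgroup X) : Set X) := by
        refine sSup_le fun A hA => centralizes_of_commuting_conj (hqs A (hS' hA)) inf_le_left
          (hSn A (hS' hA) L hL) (fun d hd hne => ?_) ?_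
        · exact hcommS A (hS' hA) _ (hinv d (mem_sup_right (mem_inf.2
            ⟨hL.1 (mem_inf.1 hd).1, (mem_inf.1 hd).2⟩)) A (hS' hA)) (Ne.symm hne)
        · obtain ⟨t, -, rfl⟩ := hA
          intro hle
          refine hKnL ?_
          rw [← Coprime.conj_smul_eq_self (hfix t.2)] at hle
          exact pointwise_smul_le_pointwise_smul_iff.1 hle
      have hrG : ¬ r ∣ Nat.card G := (Fact.out : r.Prime).coprime_iff_not_dvd.1 hcop.symm
      have hyp : Hyp r L W R :=
        { hR := hR
          hrM := fun hd => hrG (hd.trans (card_dvd_of_le hL.1))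
          hrE := fun hd => hrG (hd.trans (card_dvd_of_le (sSup_le fun A hA => hSG A (hS' hA))))
          hRM := hfix
          hEM := sSup_le fun A hA => hSn A (hS' hA) L hL
          hRE := le_normalizer_sSup hinv'
          hE := sSup_perfect fun A hA => qs_commutator_self (hqs A (hS' hA))
          hER := family_commutator_eq hR (fun A hA => hqs A (hS' hA))
            (fun A hA B hB => hcommS A (hS' hA) B (hS' hB)) hinv' fun A hA => hcenS A (hS' hA)
          hfix := hWD }
      have hKW : K ∈ S' := ⟨1, trivial, by simp⟩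
      exact hKL ((le_sSup hKW).trans (hyp.le_centralizer hS))
    · -- `K` is a component
      refine Or.inl ?_
      have hcomm' : ∀ d ∈ C, MulAut.conj d • K ≠ K →
          K ≤ centralizer ((MulAut.conj d • K : Subgroup X) : Set X) := fun d hd =>
        hcomm d (mem_sup_right hd)
      have hKn := fun L hL => hSn K hKS L hL
      obtain ⟨hKP, hLV, hD⟩ := moved_component hR hnorm hKq hKn hcomm' hL hfix hKL
      set O := (fun t : R => MulAut.conj (t : X) • L) '' Set.univ
      have hRP : R ≤ normalizer ((sSup O : Subgroup X) : Set X) := by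
        refine le_normalizer_sSup ?_
        rintro g hg _ ⟨t, -, rfl⟩
        exact ⟨⟨g, hg⟩ * t, trivial, by rw [Coprime.conj_smul_conj_smul]; rfl⟩
      have hO : ∀ A ∈ O, IsComp G A := by
        rintro _ ⟨t, -, rfl⟩; exact hL.conj_smul (hnorm t.2)
      have hLO : L ∈ O := ⟨1, trivial, by simp⟩
      have hLP : IsComp (sSup O) L := isComp_sSup (fun A hA => (hO A hA).qs)
        (fun A hA B hB e => commutator_eq_bot_iff_le_centralizer.1 ((hO A hA).commute (hO B hB) e))
        hLO
      have hLC : centralizer (L : Set X) ≤ normalizer (L : Set X) := centralizer_le_normalizer _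
      have hPLC : sSup O ≤ L ⊔ centralizer (L : Set X) := sSup_le fun A hA => by
        by_cases e : A = L
        · exact e.le.trans le_sup_left
        · exact (commutator_eq_bot_iff_le_centralizer.1 ((hO A hA).commute hL e)).trans le_sup_right
      have hKcen : K ≤ centralizer ((K ⊓ centralizer (L : Set X) : Subgroup X) : Set X) :=
        (qs_le_or_le_centralizer hKq inf_le_left (le_normalizer_inf_cent le_normalizer (hKn L hL))
          ).resolve_left fun h => hKL (h.trans inf_le_right)
      -- `R` moves `K`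
      have hKmove : ¬ R ≤ normalizer (K : Set X) := by
        intro hRK
        refine hKR (commutator_eq_bot_iff_le_centralizer.1 ?_)
        refine Components.commutator_eq_bot_of_commutator_le_centralizer (qs_commutator_self hKq) ?_
        set M0 := normalizer (K : Set X) ⊓ centralizer (L : Set X)
        have hM0 : M0 ≤ centralizer (K : Set X) := by
          refine le_centralizer_iff.1 (le_centralizer_of_series (qs_commutator_self hKq) ?_ hKcen)
          rw [commutator_le]
          intro g hg k hk
          rw [commutatorElement_def]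
          refine mem_inf.2 ⟨mul_mem ((mem_normalizer_iff.1 (mem_inf.1 hg).1 k).1 hk) (inv_mem hk), ?_⟩
          rw [mul_assoc, mul_assoc, ← mul_assoc k g⁻¹]
          exact mul_mem (mem_inf.1 hg).2 ((mem_normalizer_iff.1
            (normalizer_le_normalizer_cent L (hKn L hL hk)) _).1 (inv_mem (mem_inf.1 hg).2))
        rw [commutator_le]
        intro k hk t ht
        obtain ⟨x, hx, c, hc, e⟩ := Coprime.exists_mul_of_mem_sup hLC (hPLC (hKP (inv_mem hk)))
        obtain ⟨d, hd, hdc, -⟩ := exists_diagonal hR hRP hLP hfix hx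
        have hg : k * d ∈ centralizer (K : Set X) := by
          refine hM0 (mem_inf.2 ⟨mul_mem (le_normalizer hk) (hD d hd), ?_⟩)
          rw [show k = (x * c)⁻¹ by rw [e, inv_inv], mul_inv_rev, mul_assoc]
          exact mul_mem (inv_mem hc) hdc
        have hg' := (mem_normalizer_iff.1 (normalizer_le_normalizer_cent K (hRK ht)) _).1 hg
        have := mul_mem hg (inv_mem hg')
        have h3 : t * d = d * t := mem_centralizer_iff.1 (mem_inf.1 hd).2 t ht
        have e2 : k * d * (t * (k * d) * t⁻¹)⁻¹ = k * t * k⁻¹ * t⁻¹ := by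
          rw [mul_inv_rev, mul_inv_rev, mul_inv_rev, inv_inv]
          calc k * d * (t * (d⁻¹ * k⁻¹ * t⁻¹)) = k * (d * t) * d⁻¹ * k⁻¹ * t⁻¹ := by group
            _ = k * (t * d) * d⁻¹ * k⁻¹ * t⁻¹ := by rw [h3]
            _ = _ := by group
        rwa [e2, ← commutatorElement_def] at this
      -- `K` centralises the other conjugates
      have hother : ∀ t ∈ R, MulAut.conj t • L ≠ L →
          K ≤ centralizer ((MulAut.conj t • L : Subgroup X) : Set X) := by
        intro t ht hne
        by_contra hn
        set L' := MulAut.conj t • L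
        have hL' : IsComp G L' := hL.conj_smul (hnorm ht)
        have hmove' : ¬ R ≤ normalizer (L' : Set X) := fun h => hne (by
          have h2 := Coprime.conj_smul_eq_self (h (inv_mem ht))
          rw [Coprime.conj_smul_conj_smul, inv_mul_cancel, Coprime.conj_one_smul] at h2
          exact h2.symm)
        obtain ⟨-, hL'V, -⟩ := moved_component hR hnorm hKq hKn hcomm' hL' hmove' hn
        have ht1 : t ≠ 1 := by
          rintro rfl
          exact hne (Coprime.conj_one_smul L)
        have hKK : MulAut.conj t • K ≠ K := fun e => hKmove (by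
          rw [← eq_zpowers_of_mem hR ht ht1, zpowers_le, Coprime.mem_normalizer_iff_conj_smul_eq]
          exact e)
        set C' := centralizer (L' : Set X)
        have hL'V' : L' ≤ MulAut.conj t • K ⊔ C' := by
          refine (pointwise_smul_le_pointwise_smul_iff.2 hLV).trans (le_of_eq ?_)
          rw [smul_sup]
          congr 1
          ext y
          rw [Coprime.mem_conj_smul, mem_centralizer_iff, mem_centralizer_iff]
          constructor
          · intro h z hz
            rw [SetLike.mem_coe, Coprime.mem_conj_smul] at hz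
            have h2 := h _ hz
            calc z * y = t * (t⁻¹ * z * t * (t⁻¹ * y * t)) * t⁻¹ := by group
              _ = t * (t⁻¹ * y * t * (t⁻¹ * z * t)) * t⁻¹ := by rw [h2]
              _ = _ := by group
          · intro h z hz
            have h2 := h _ (Coprime.conj_mem_conj_smul (g := t) hz)
            calc z * (t⁻¹ * y * t) = t⁻¹ * (t * z * t⁻¹ * y) * t := by group
              _ = t⁻¹ * (y * (t * z * t⁻¹)) * t := by rw [h2]
              _ = _ := by group
        refine qs_not_le_centralizer hL'.qs ((qs_commutator_self hL'.qs).ge.trans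
          ((commutator_mono hL'V hL'V').trans ((commutator_sup_le ?_ ?_).trans ?_)))
        · exact (hSn K hKS L' hL').trans (normalizer_le_normalizer_cent L')
        · exact (hSn _ (hinv t (mem_sup_left ht) K hKS) L' hL').trans (normalizer_le_normalizer_cent L')
        · rw [commutator_eq_bot_iff_le_centralizer.2 (hcomm t (mem_sup_left ht) hKK), bot_sup_eq]
      have hKeq : K = L := by
        have hKleL : K ≤ L := by
          set Q := sSup {A | A ∈ O ∧ A ≠ L}
          have hQL : Q ≤ centralizer (L : Set X) := sSup_le fun A hA =>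
            commutator_eq_bot_iff_le_centralizer.1 ((hO A hA.1).commute hL hA.2)
          have hKQ : K ≤ centralizer (Q : Set X) := le_centralizer_iff.1 (sSup_le (by
            rintro _ ⟨⟨t, -, rfl⟩, hne⟩
            exact le_centralizer_iff.1 (hother t t.2 hne)))
          have hLQ : L ≤ centralizer (Q : Set X) := le_centralizer_iff.1 hQL
          refine perfect_le_of_central (Z := Q ⊓ centralizer (Q : Set X)) (qs_commutator_self hKq)
            (fun k hk => ?_) (sup_le (hLQ.trans (centralizer_le inf_le_left))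
              (inf_le_right.trans (centralizer_le inf_le_left)))
          have hPQ : sSup O ≤ L ⊔ Q := sSup_le fun A hA => by
            by_cases e : A = L
            · exact e.le.trans le_sup_left
            · exact (le_sSup (show A ∈ {A | A ∈ O ∧ A ≠ L} from ⟨hA, e⟩)).trans le_sup_right
          obtain ⟨l, hl, q, hq, rfl⟩ :=
            Coprime.exists_mul_of_mem_sup (hQL.trans hLC) (hPQ (hKP hk))
          refine mul_mem_sup hl (mem_inf.2 ⟨hq, ?_⟩)
          rw [show q = l⁻¹ * (l * q) by group]
          exact mul_mem (inv_mem (hLQ hl)) (hKQ hk)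
        refine le_antisymm hKleL ?_
        refine perfect_le_of_central (Z := L ⊓ centralizer (L : Set X))
          (qs_commutator_self hL.qs) (fun x hx => ?_) ?_
        · obtain ⟨c, hc, k, hk, e⟩ := Coprime.exists_mul_of_mem_sup
            ((hKn L hL).trans (normalizer_le_normalizer_cent L))
            (show x ∈ centralizer (L : Set X) ⊔ K by rw [sup_comm]; exact hLV hx)
          rw [← e, sup_comm]
          refine mul_mem_sup (mem_inf.2 ⟨?_, hc⟩) hk
          rw [show c = x * k⁻¹ by rw [← e]; group]
          exact mul_mem hx (inv_mem (hKleL hk))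
        · exact le_centralizer_iff.1 (inf_le_right.trans
            (centralizer_le (sup_le hKleL inf_le_left : K ⊔ _ ≤ L)))
      rw [hKeq]
      exact hL.2

end CfsgLib.CoprimeLayer
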